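import Mathlib

set_option autoImplicit false

/-!
Maps of `n ≤ 16` points packed in a number in base 16, the first return times of the points, and a
test that a power of a permutation is a cycle of prime length.
-/

namespace Cfsg.Agent.Helper9.T11

/-- the digit `i` of a number in base 16. -/
def img (p i : ℕ) : ℕ := Nat.mod (Nat.div p (Nat.pow 16 i)) 16

/-- the number with the digits `f 0, ..., f (n - 1)` in base 16. -/
def packF (f : ℕ → ℕ) (n : ℕ) : ℕ :=
  Nat.rec (motive := fun _ => ℕ) 0 (fun j acc => Nat.add acc (Nat.mul (f j) (Nat.pow 16 j))) n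

theorem packF_succ (f : ℕ → ℕ) (n : ℕ) : packF f (n + 1) = packF f n + f n * 16 ^ n := rfl

theorem packF_lt {f : ℕ → ℕ} : ∀ n : ℕ, (∀ j < n, f j < 16) → packF f n < 16 ^ n := by
  intro n
  induction n with
  | zero => intro _; exact Nat.one_pos
  | succ n ih =>
    intro hf
    rw [packF_succ, pow_succ]
    have h1 := ih (fun j hj => hf j (Nat.lt_succ_of_lt hj))
    have h2 := hf n (Nat.lt_succ_self n)
    nlinarith [Nat.pos_of_ne_zero (pow_ne_zero n (by norm_num : (16 : ℕ) ≠ 0))]

theorem img_eq (p i : ℕ) : img p i = p / 16 ^ i % 16 := rfl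

theorem img_packF {f : ℕ → ℕ} : ∀ n : ℕ, (∀ j < n, f j < 16) → ∀ x < n, img (packF f n) x = f x := by
  intro n
  induction n with
  | zero => intro _ x hx; exact absurd hx (Nat.not_lt_zero x)
  | succ n ih =>
    intro hf x hx
    have hf' : ∀ j < n, f j < 16 := fun j hj => hf j (Nat.lt_succ_of_lt hj)
    rw [packF_succ, img_eq]
    rcases Nat.lt_succ_iff_lt_or_eq.1 hx with hx | rfl
    · have h1 := ih hf' x hx
      rw [img_eq] at h1
      obtain ⟨d, rfl⟩ : ∃ d, n = x + 1 + d := ⟨n - (x + 1), by omega⟩
      have e : f (x + 1 + d) * 16 ^ (x + 1 + d) = 16 ^ x * (16 * (f (x + 1 + d) * 16 ^ d)) := by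
        rw [pow_add, pow_succ]; ring
      rw [e, Nat.add_mul_div_left _ _ (pow_pos (by norm_num) x), Nat.add_mul_mod_self_left, h1]
    · have h1 := packF_lt x hf'
      rw [Nat.add_mul_div_right _ _ (pow_pos (by norm_num) x), Nat.div_eq_of_lt h1, Nat.zero_add]
      exact Nat.mod_eq_of_lt (hf x (Nat.lt_succ_self x))

/-! ### forcing the evaluation of a number -/

/-- `f v`, with `v` evaluated first. -/
def frc {α : Type} (v : ℕ) (f : ℕ → α) : α :=
  Nat.rec (motive := fun _ => α) (f 0) (fun k _ => f (Nat.succ k)) v

theorem frc_eq {α : Type} (v : ℕ) (f : ℕ → α) : frc v f = f v := by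
  cases v <;> rfl

theorem packF_congr {f f' : ℕ → ℕ} : ∀ n : ℕ, (∀ j < n, f j = f' j) → packF f n = packF f' n := by
  intro n
  induction n with
  | zero => intro _; rfl
  | succ n ih =>
    intro hf
    rw [packF_succ, packF_succ, ih (fun j hj => hf j (Nat.lt_succ_of_lt hj)), hf n (Nat.lt_succ_self n)]

theorem packF_add_single (f : ℕ → ℕ) (i : ℕ) : ∀ n : ℕ, i < n →
    packF (fun j => f j + if j = i then 1 else 0) n = packF f n + 16 ^ i := by
  intro n
  induction n with
  | zero => intro hi; exact absurd hi (Nat.not_lt_zero i)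
  | succ n ih =>
    intro hi
    rw [packF_succ, packF_succ]
    rcases Nat.lt_succ_iff_lt_or_eq.1 hi with hi | rfl
    · rw [ih hi, if_neg (by omega)]
      ring
    · rw [if_pos rfl]
      have e : packF (fun j => f j + if j = i then 1 else 0) i = packF f i := by
        apply packF_congr
        intro j hj
        rw [if_neg (by omega), Nat.add_zero]
      rw [e]
      ring

/-! ### first return times -/

/-- the first return time of `x` under the map with the digits `h`, within `fuel` steps, or `0`: `y` is
the running point and `s` the number of steps made. -/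
def clenAux (h x : ℕ) : ℕ → ℕ → ℕ → ℕ :=
  fun fuel => Nat.rec (motive := fun _ => ℕ → ℕ → ℕ) (fun _ _ => 0)
    (fun _ ih y s => frc (img h y)
      (fun y' => cond (Nat.beq y' x) (Nat.succ s) (ih y' (Nat.succ s)))) fuel

theorem clenAux_zero (h x y s : ℕ) : clenAux h x 0 y s = 0 := rfl

theorem clenAux_succ (h x fuel y s : ℕ) : clenAux h x (fuel + 1) y s =
    cond (Nat.beq (img h y) x) (s + 1) (clenAux h x fuel (img h y) (s + 1)) := by
  change frc (img h y) (fun y' => cond (Nat.beq y' x) (Nat.succ s)
    (clenAux h x fuel y' (Nat.succ s))) = _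
  rw [frc_eq]

/-- the first return time of `x` within `n` steps, or `0`. -/
def clen (n h x : ℕ) : ℕ := clenAux h x n x 0

theorem clenAux_spec (h x : ℕ) : ∀ fuel y s : ℕ, clenAux h x fuel y s ≠ 0 →
    ∃ r, 1 ≤ r ∧ clenAux h x fuel y s = s + r ∧ (img h)^[r] y = x ∧ (r = 1 ∨ img h y ≠ x) := by
  intro fuel
  induction fuel with
  | zero => intro y s hne; exact absurd (clenAux_zero h x y s) hne
  | succ fuel ih =>
    intro y s hne
    rw [clenAux_succ] at hne ⊢
    by_cases hb : Nat.beq (img h y) x = true
    · rw [hb, cond_true]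
      exact ⟨1, le_refl 1, rfl, Nat.eq_of_beq_eq_true hb, Or.inl rfl⟩
    · have hb' : Nat.beq (img h y) x = false := Bool.eq_false_iff.2 hb
      rw [hb', cond_false] at hne ⊢
      obtain ⟨r, hr1, hr2, hr3, _⟩ := ih (img h y) (s + 1) hne
      refine ⟨r + 1, Nat.succ_le_succ (Nat.zero_le r), by rw [hr2]; ring, ?_, Or.inr ?_⟩
      · rw [Function.iterate_succ_apply]; exact hr3
      · intro he
        rw [he, Nat.beq_refl] at hb'
        exact Bool.noConfusion hb'

theorem clen_spec {n h x : ℕ} (hne : clen n h x ≠ 0) :
    (img h)^[clen n h x] x = x ∧ (clen n h x = 1 ∨ img h x ≠ x) := by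
  obtain ⟨r, _, hr2, hr3, hr4⟩ := clenAux_spec h x n x 0 hne
  have e : clen n h x = r := by unfold clen; rw [hr2, Nat.zero_add]
  rw [e]
  exact ⟨hr3, hr4⟩

/-! ### the test for a prime -/

theorem clenAux_le (h x : ℕ) : ∀ fuel y s : ℕ, clenAux h x fuel y s ≤ s + fuel := by
  intro fuel
  induction fuel with
  | zero => intro y s; rw [clenAux_zero]; exact Nat.zero_le _
  | succ fuel ih =>
    intro y s
    rw [clenAux_succ]
    cases Nat.beq (img h y) x
    · rw [cond_false]
      have := ih (img h y) (s + 1)
      omega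
    · rw [cond_true]
      omega

theorem clen_le (n h x : ℕ) : clen n h x ≤ n := by
  have := clenAux_le h x n x 0
  unfold clen
  omega

/-- what the test for the prime `l` gives: the return time is `l` at exactly `l` points and prime to
`l` at the others. -/
def ProfOK (n h l : ℕ) : Prop :=
  ((Finset.range n).filter (fun x => clen n h x = l)).card = l ∧
    ∀ x < n, clen n h x = l ∨ Nat.Coprime (clen n h x) l

/-- the sum of `16 ^ t` over the return times `t` of the points below `k`. -/
def ctypeAux (n h : ℕ) (k : ℕ) : ℕ :=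
  Nat.rec (motive := fun _ => ℕ) 0 (fun x acc => Nat.add acc (Nat.pow 16 (clen n h x))) k

/-- the sum of `16 ^ t` over the return times `t` of the points. -/
def ctype (n h : ℕ) : ℕ := ctypeAux n h n

theorem ctypeAux_succ (n h k : ℕ) : ctypeAux n h (k + 1) = ctypeAux n h k + 16 ^ clen n h k := rfl

theorem ctypeAux_eq (n h : ℕ) : ∀ k : ℕ, ctypeAux n h k =
    packF (fun len => ((Finset.range k).filter (fun x => clen n h x = len)).card) (n + 1) := by
  intro k
  induction k with
  | zero =>
    have : ∀ N : ℕ, packF (fun _ => 0) N = 0 := by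
      intro N
      induction N with
      | zero => rfl
      | succ N ih => rw [packF_succ, ih, Nat.zero_mul]
    simp only [Finset.range_zero, Finset.filter_empty, Finset.card_empty]
    rw [this]
    rfl
  | succ k ih =>
    rw [ctypeAux_succ, ih, ← packF_add_single _ _ _ (Nat.lt_succ_of_le (clen_le n h k))]
    apply packF_congr
    intro j _
    rw [Finset.range_add_one, Finset.filter_insert]
    by_cases hj : clen n h k = j
    · rw [if_pos hj, if_pos hj.symm, Finset.card_insert_of_notMem (by simp)]
    · rw [if_neg hj, if_neg (fun e => hj e.symm), Nat.add_zero]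

theorem img_ctype {n h : ℕ} (hn : n < 16) {len : ℕ} (hlen : len ≤ n) :
    img (ctype n h) len = ((Finset.range n).filter (fun x => clen n h x = len)).card := by
  unfold ctype
  rw [ctypeAux_eq]
  apply img_packF (n + 1) _ len (Nat.lt_succ_of_le hlen)
  intro j _
  refine lt_of_le_of_lt (Finset.card_filter_le _ _) ?_
  rw [Finset.card_range]
  exact hn

theorem img_lt (p i : ℕ) : img p i < 16 := by
  rw [img_eq]
  exact Nat.mod_lt _ (by norm_num)

theorem img_land (a b i : ℕ) : img (a &&& b) i = img a i &&& img b i := by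
  have e : ∀ p : ℕ, img p i = (p >>> (4 * i)) % 2 ^ 4 := by
    intro p
    rw [img_eq, Nat.shiftRight_eq_div_pow, pow_mul]
    norm_num
  rw [e, e, e]
  apply Nat.eq_of_testBit_eq
  intro k
  rw [Nat.testBit_and, Nat.testBit_mod_two_pow, Nat.testBit_mod_two_pow, Nat.testBit_mod_two_pow,
    Nat.testBit_shiftRight, Nat.testBit_shiftRight, Nat.testBit_shiftRight, Nat.testBit_and]
  cases decide (k < 4) <;> simp

theorem land_15 {x : ℕ} (hx : x < 16) : x &&& 15 = x := by
  have : (15 : ℕ) = 2 ^ 4 - 1 := by norm_num
  rw [this, Nat.and_two_pow_sub_one_eq_mod]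
  exact Nat.mod_eq_of_lt hx

/-- the mask `mk` and the target `tg` of the prime `l`: the digits of `mk` are `15` at the multiples
of `l` up to `n`, the digits of `tg` are `l` at `l` and `0` at the other multiples of `l`. -/
def MaskOK (n l mk tg : ℕ) : Prop :=
  ∀ len < n + 1, l ∣ len → img mk len = 15 ∧ img tg len = if len = l then l else 0

instance (n l mk tg : ℕ) : Decidable (MaskOK n l mk tg) := by
  unfold MaskOK; infer_instance

/-- the test for a prime, from the number `t` of `ctype`, the mask and the target of the prime. -/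
def ptest (t mk tg : ℕ) : Bool := Nat.beq (Nat.land t mk) tg

theorem ptest_spec {n h l mk tg : ℕ} (hn : n < 16) (hl : l ≤ n) (hlp : l.Prime)
    (hm : MaskOK n l mk tg) (hp : ptest (ctype n h) mk tg = true) : ProfOK n h l := by
  have hp' : ctype n h &&& mk = tg := Nat.eq_of_beq_eq_true hp
  have key : ∀ len < n + 1, l ∣ len →
      img (ctype n h) len = if len = l then l else 0 := by
    intro len hlen hd
    obtain ⟨h1, h2⟩ := hm len hlen hd
    have h3 := img_land (ctype n h) mk len
    rw [hp', h1, h2, land_15 (img_lt _ _)] at h3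
    exact h3.symm
  constructor
  · rw [← img_ctype hn hl, key l (Nat.lt_succ_of_le hl) (dvd_refl l), if_pos rfl]
  · intro x hx
    by_cases hxl : clen n h x = l
    · exact Or.inl hxl
    · right
      have hle := clen_le n h x
      by_contra hco
      have hd : l ∣ clen n h x := by
        by_contra hnd
        exact hco ((Nat.Prime.coprime_iff_not_dvd hlp).2 hnd).symm
      have h0 := key (clen n h x) (Nat.lt_succ_of_le hle) hd
      rw [if_neg hxl, img_ctype hn hle] at h0
      have : x ∈ (Finset.range n).filter (fun y => clen n h y = clen n h x) := by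
        rw [Finset.mem_filter, Finset.mem_range]
        exact ⟨hx, rfl⟩
      rw [Finset.card_eq_zero] at h0
      rw [h0] at this
      exact absurd this (Finset.notMem_empty x)

end Cfsg.Agent.Helper9.T11
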