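import Mathlib
import Cfsg.Agent.Helper9.T11.Pk

set_option autoImplicit false

/-!
If the test for a prime `l` holds for the digits of a permutation, a power of the permutation is a
cycle of length `l`.
-/

namespace Cfsg.Agent.Helper9.T11

/-- the digits of `h` are the values of `σ`. -/
def Rep (n h : ℕ) (σ : Equiv.Perm (Fin n)) : Prop := ∀ x : Fin n, img h x.val = (σ x).val

theorem Rep.iterate {n h : ℕ} {σ : Equiv.Perm (Fin n)} (hr : Rep n h σ) (t : ℕ) (x : Fin n) :
    (img h)^[t] x.val = ((σ ^ t) x).val := by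
  induction t generalizing x with
  | zero => rfl
  | succ t ih =>
    rw [Function.iterate_succ_apply, hr x, ih (σ x), pow_succ, Equiv.Perm.mul_apply]

theorem pow_mul_apply_eq {n : ℕ} {σ : Equiv.Perm (Fin n)} {x : Fin n} {a : ℕ}
    (h : (σ ^ a) x = x) (b : ℕ) : (σ ^ (a * b)) x = x := by
  rw [pow_mul]
  exact Equiv.Perm.pow_apply_eq_self_of_apply_eq_self h b

theorem prof_sound {n h l : ℕ} {σ : Equiv.Perm (Fin n)} (hr : Rep n h σ) (hl : l.Prime)
    (hp : ProfOK n h l) : ∃ k : ℕ, (σ ^ k).IsCycle ∧ (σ ^ k).support.card = l := by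
  classical
  obtain ⟨h1, h2⟩ := hp
  -- the points with return time `l`
  set S : Finset (Fin n) := Finset.univ.filter (fun x : Fin n => clen n h x.val = l) with hS
  have hScard : S.card = l := by
    rw [← h1]
    apply Finset.card_bij (fun (x : Fin n) _ => x.val)
    · intro x hx
      rw [Finset.mem_filter] at hx ⊢
      exact ⟨Finset.mem_range.2 x.isLt, hx.2⟩
    · intro x _ y _ hxy
      exact Fin.ext hxy
    · intro y hy
      rw [Finset.mem_filter, Finset.mem_range] at hy
      exact ⟨⟨y, hy.1⟩, by rw [hS, Finset.mem_filter]; exact ⟨Finset.mem_univ _, hy.2⟩, rfl⟩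
  have hl2 := hl.two_le
  -- the points of `S`
  have hSpt : ∀ x ∈ S, (σ ^ l) x = x ∧ σ x ≠ x := by
    intro x hx
    rw [hS, Finset.mem_filter] at hx
    have hne : clen n h x.val ≠ 0 := by rw [hx.2]; omega
    obtain ⟨e1, e2⟩ := clen_spec hne
    rw [hx.2] at e1 e2
    refine ⟨Fin.ext ?_, ?_⟩
    · rw [← hr.iterate]; exact e1
    · rcases e2 with e2 | e2
      · omega
      · intro he
        apply e2
        rw [hr x, he]
  -- the other points
  have hOpt : ∀ x ∉ S, Nat.Coprime (clen n h x.val) l ∧ (σ ^ clen n h x.val) x = x := by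
    intro x hx
    have hxl : ¬ clen n h x.val = l := by
      intro he; apply hx; rw [hS, Finset.mem_filter]; exact ⟨Finset.mem_univ _, he⟩
    have hco : Nat.Coprime (clen n h x.val) l := (h2 x.val x.isLt).resolve_left hxl
    have hne : clen n h x.val ≠ 0 := by
      intro he
      rw [he, Nat.coprime_zero_left] at hco
      omega
    refine ⟨hco, Fin.ext ?_⟩
    rw [← hr.iterate]
    exact (clen_spec hne).1
  set K : ℕ := ∏ x ∈ Finset.univ.filter (fun x : Fin n => x ∉ S), clen n h x.val with hK
  have hKco : Nat.Coprime K l := by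
    apply Nat.Coprime.prod_left
    intro x hx
    rw [Finset.mem_filter] at hx
    exact (hOpt x hx.2).1
  have hfixO : ∀ x ∉ S, (σ ^ K) x = x := by
    intro x hx
    obtain ⟨d, hd⟩ : clen n h x.val ∣ K :=
      Finset.dvd_prod_of_mem (fun x : Fin n => clen n h x.val)
        (Finset.mem_filter.2 ⟨Finset.mem_univ _, hx⟩)
    rw [hd]
    exact pow_mul_apply_eq (hOpt x hx).2 d
  have hmovS : ∀ x ∈ S, (σ ^ K) x ≠ x := by
    intro x hx hfix
    have p1 : Function.IsPeriodicPt σ K x := by
      unfold Function.IsPeriodicPt Function.IsFixedPt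
      rw [Equiv.Perm.iterate_eq_pow]; exact hfix
    have p2 : Function.IsPeriodicPt σ l x := by
      unfold Function.IsPeriodicPt Function.IsFixedPt
      rw [Equiv.Perm.iterate_eq_pow]; exact (hSpt x hx).1
    have p3 := p1.gcd p2
    rw [hKco] at p3
    exact (hSpt x hx).2 p3
  have hsupp : (σ ^ K).support = S := by
    ext x
    rw [Equiv.Perm.mem_support]
    constructor
    · intro hx
      by_contra hxS
      exact hx (hfixO x hxS)
    · intro hx
      exact hmovS x hx
  have hpow : (σ ^ K) ^ l = 1 := by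
    ext x
    rw [Equiv.Perm.one_apply]
    by_cases hx : x ∈ S
    · rw [← pow_mul, mul_comm]
      rw [pow_mul_apply_eq (hSpt x hx).1 K]
    · rw [Equiv.Perm.pow_apply_eq_self_of_apply_eq_self (hfixO x hx) l]
  have hne1 : σ ^ K ≠ 1 := by
    intro he
    have : (σ ^ K).support.card = l := by rw [hsupp, hScard]
    rw [he, Equiv.Perm.support_one, Finset.card_empty] at this
    omega
  have hord : orderOf (σ ^ K) = l := by
    have : Fact l.Prime := ⟨hl⟩
    exact orderOf_eq_prime hpow hne1
  refine ⟨K, ?_, by rw [hsupp, hScard]⟩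
  apply Equiv.Perm.isCycle_of_prime_order
  · rw [hord]; exact hl
  · rw [hord, hsupp, hScard]; omega

end Cfsg.Agent.Helper9.T11
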