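import Mathlib
import Cfsg.Agent.Helper9.T11.Cyc

set_option autoImplicit false

/-!
Words in the rotation of `n` points and a further permutation given by its digits, and the search
for a word a power of which is a cycle of prime length.
-/

namespace Cfsg.Agent.Helper9.T11

/-- the rotation of `n` points. -/
def rot (n : ℕ) : Equiv.Perm (Fin n) := finRotate n

theorem rot_pow_apply (n i : ℕ) (y : Fin n) : ((rot n ^ i) y).val = (y.val + i) % n := by
  cases n with
  | zero => exact y.elim0
  | succ m =>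
    induction i with
    | zero =>
      rw [pow_zero, Equiv.Perm.one_apply]
      exact (Nat.mod_eq_of_lt (show y.val + 0 < m + 1 from y.isLt)).symm
    | succ i ih =>
      rw [pow_succ', Equiv.Perm.mul_apply]
      unfold rot at ih ⊢
      rw [finRotate_apply, Fin.val_add, ih, Fin.val_one', Nat.add_mod_mod, Nat.mod_add_mod,
        Nat.add_assoc]

/-- the image of a point under the map of a word: the word `i :: w` is the rotation by `i` after the
permutation after the word `w`. -/
def wimg (n g : ℕ) (w : List ℕ) (x : ℕ) : ℕ :=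
  List.rec (motive := fun _ => ℕ) x (fun i _ ih => Nat.mod (Nat.add (img g ih) i) n) w

theorem wimg_nil (n g x : ℕ) : wimg n g [] x = x := rfl

theorem wimg_cons (n g i : ℕ) (w : List ℕ) (x : ℕ) :
    wimg n g (i :: w) x = (img g (wimg n g w x) + i) % n := rfl

/-- the digits of the map of a word. -/
def wmap (n g : ℕ) (w : List ℕ) : ℕ := packF (wimg n g w) n

/-- the permutation of a word. -/
def wperm (n : ℕ) (γ : Equiv.Perm (Fin n)) (w : List ℕ) : Equiv.Perm (Fin n) :=
  List.rec (motive := fun _ => Equiv.Perm (Fin n)) 1 (fun i _ ih => rot n ^ i * γ * ih) w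

theorem wperm_nil (n : ℕ) (γ : Equiv.Perm (Fin n)) : wperm n γ [] = 1 := rfl

theorem wperm_cons (n : ℕ) (γ : Equiv.Perm (Fin n)) (i : ℕ) (w : List ℕ) :
    wperm n γ (i :: w) = rot n ^ i * γ * wperm n γ w := rfl

theorem wperm_mem (n : ℕ) (γ : Equiv.Perm (Fin n)) (w : List ℕ) :
    wperm n γ w ∈ Subgroup.closure ({rot n, γ} : Set (Equiv.Perm (Fin n))) := by
  induction w with
  | nil => exact Subgroup.one_mem _
  | cons i w ih =>
    rw [wperm_cons]
    refine Subgroup.mul_mem _ (Subgroup.mul_mem _ (Subgroup.pow_mem _ ?_ i) ?_) ih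
    · exact Subgroup.subset_closure (by simp)
    · exact Subgroup.subset_closure (by simp)

theorem wimg_rep {n g : ℕ} {γ : Equiv.Perm (Fin n)} (hr : Rep n g γ) (w : List ℕ) (x : Fin n) :
    wimg n g w x.val = (wperm n γ w x).val := by
  induction w with
  | nil => rfl
  | cons i w ih =>
    rw [wimg_cons, ih, hr, wperm_cons, Equiv.Perm.mul_apply, Equiv.Perm.mul_apply, rot_pow_apply]

theorem wmap_rep {n g : ℕ} {γ : Equiv.Perm (Fin n)} (hn : n ≤ 16) (hr : Rep n g γ) (w : List ℕ) :
    Rep n (wmap n g w) (wperm n γ w) := by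
  intro x
  have hlt : ∀ j < n, wimg n g w j < 16 := by
    intro j hj
    have := wimg_rep hr w ⟨j, hj⟩
    rw [this]
    exact lt_of_lt_of_le (Fin.isLt _) hn
  unfold wmap
  rw [img_packF n hlt x.val x.isLt, wimg_rep hr w x]

/-- the test of the number `t` of `ctype` for a list of primes with their masks and targets. -/
def anyP (t : ℕ) (ps : List (ℕ × ℕ × ℕ)) : Bool :=
  List.rec (motive := fun _ => Bool) false (fun e _ ih => or (ptest t e.2.1 e.2.2) ih) ps

theorem anyP_nil (t : ℕ) : anyP t [] = false := rfl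

theorem anyP_cons (t : ℕ) (e : ℕ × ℕ × ℕ) (ps : List (ℕ × ℕ × ℕ)) :
    anyP t (e :: ps) = (ptest t e.2.1 e.2.2 || anyP t ps) := rfl

/-- the test of a word for a list of primes. -/
def goodW (n : ℕ) (ps : List (ℕ × ℕ × ℕ)) (g : ℕ) (w : List ℕ) : Bool :=
  frc (wmap n g w) (fun h => frc (ctype n h) (fun t => anyP t ps))

theorem goodW_eq (n : ℕ) (ps : List (ℕ × ℕ × ℕ)) (g : ℕ) (w : List ℕ) :
    goodW n ps g w = anyP (ctype n (wmap n g w)) ps := by
  unfold goodW
  rw [frc_eq, frc_eq]

/-- the primes of the list are primes at most `n - 3`, with their masks and targets. -/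
def PrimesOK (n : ℕ) (ps : List (ℕ × ℕ × ℕ)) : Prop :=
  ∀ e ∈ ps, e.1.Prime ∧ e.1 + 3 ≤ n ∧ MaskOK n e.1 e.2.1 e.2.2

/-- the conclusion of the search: a cycle of prime length at most `n - 3` in the subgroup. -/
def HasCyc (n : ℕ) (γ : Equiv.Perm (Fin n)) : Prop :=
  ∃ τ ∈ Subgroup.closure ({rot n, γ} : Set (Equiv.Perm (Fin n))), ∃ l : ℕ,
    l.Prime ∧ l + 3 ≤ n ∧ τ.IsCycle ∧ τ.support.card = l

theorem goodW_sound {n : ℕ} {ps : List (ℕ × ℕ × ℕ)} (hps : PrimesOK n ps) {g : ℕ}
    {γ : Equiv.Perm (Fin n)} (hn : n < 16) (hr : Rep n g γ) {w : List ℕ}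
    (h : goodW n ps g w = true) : HasCyc n γ := by
  rw [goodW_eq] at h
  induction ps with
  | nil => rw [anyP_nil] at h; exact Bool.noConfusion h
  | cons e ps ih =>
    rw [anyP_cons, Bool.or_eq_true] at h
    rcases h with h | h
    · obtain ⟨hl, hl3, hm⟩ := hps e List.mem_cons_self
      obtain ⟨k, hc, hcard⟩ := prof_sound (wmap_rep (le_of_lt hn) hr w) hl
        (ptest_spec hn (by omega) hl hm h)
      exact ⟨wperm n γ w ^ k, Subgroup.pow_mem _ (wperm_mem n γ w) k, e.1, hl, hl3, hc, hcard⟩
    · exact ih (fun l' hl' => hps l' (List.mem_cons_of_mem _ hl')) h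

/-- the search among the words `[i]`, `i < k`. -/
def search1 (n : ℕ) (ps : List (ℕ × ℕ × ℕ)) (g : ℕ) : ℕ → Bool :=
  fun k => Nat.rec (motive := fun _ => Bool) false (fun i ih => or (goodW n ps g [i]) ih) k

/-- the search among the words `[i, j]`, `j < k`. -/
def search2b (n : ℕ) (ps : List (ℕ × ℕ × ℕ)) (g i : ℕ) : ℕ → Bool :=
  fun k => Nat.rec (motive := fun _ => Bool) false (fun j ih => or (goodW n ps g [i, j]) ih) k

/-- the search among the words `[i, j]`, `i < k`, `j < n`. -/
def search2 (n : ℕ) (ps : List (ℕ × ℕ × ℕ)) (g : ℕ) : ℕ → Bool :=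
  fun k => Nat.rec (motive := fun _ => Bool) false (fun i ih => or (search2b n ps g i n) ih) k

/-- the search. -/
def search (n : ℕ) (ps : List (ℕ × ℕ × ℕ)) (g : ℕ) : Bool := or (search1 n ps g n) (search2 n ps g n)

theorem search1_sound {n : ℕ} {ps : List (ℕ × ℕ × ℕ)} (hps : PrimesOK n ps) {g : ℕ} {γ : Equiv.Perm (Fin n)}
    (hn : n < 16) (hr : Rep n g γ) : ∀ k : ℕ, search1 n ps g k = true → HasCyc n γ := by
  intro k
  induction k with
  | zero => intro h; exact Bool.noConfusion h
  | succ k ih =>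
    intro h
    have h' : (goodW n ps g [k] || search1 n ps g k) = true := h
    rw [Bool.or_eq_true] at h'
    rcases h' with h' | h'
    · exact goodW_sound hps hn hr h'
    · exact ih h'

theorem search2b_sound {n : ℕ} {ps : List (ℕ × ℕ × ℕ)} (hps : PrimesOK n ps) {g : ℕ} {γ : Equiv.Perm (Fin n)}
    (hn : n < 16) (hr : Rep n g γ) (i : ℕ) : ∀ k : ℕ, search2b n ps g i k = true → HasCyc n γ := by
  intro k
  induction k with
  | zero => intro h; exact Bool.noConfusion h
  | succ k ih =>
    intro h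
    have h' : (goodW n ps g [i, k] || search2b n ps g i k) = true := h
    rw [Bool.or_eq_true] at h'
    rcases h' with h' | h'
    · exact goodW_sound hps hn hr h'
    · exact ih h'

theorem search2_sound {n : ℕ} {ps : List (ℕ × ℕ × ℕ)} (hps : PrimesOK n ps) {g : ℕ} {γ : Equiv.Perm (Fin n)}
    (hn : n < 16) (hr : Rep n g γ) : ∀ k : ℕ, search2 n ps g k = true → HasCyc n γ := by
  intro k
  induction k with
  | zero => intro h; exact Bool.noConfusion h
  | succ k ih =>
    intro h
    have h' : (search2b n ps g k n || search2 n ps g k) = true := h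
    rw [Bool.or_eq_true] at h'
    rcases h' with h' | h'
    · exact search2b_sound hps hn hr k n h'
    · exact ih h'

theorem search_sound {n : ℕ} {ps : List (ℕ × ℕ × ℕ)} (hps : PrimesOK n ps) {g : ℕ} {γ : Equiv.Perm (Fin n)}
    (hn : n < 16) (hr : Rep n g γ) (h : search n ps g = true) : HasCyc n γ := by
  have h' : (search1 n ps g n || search2 n ps g n) = true := h
  rw [Bool.or_eq_true] at h'
  rcases h' with h' | h'
  · exact search1_sound hps hn hr n h'
  · exact search2_sound hps hn hr n h'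

end Cfsg.Agent.Helper9.T11
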