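import Mathlib
import Cfsg.Agent.Helper9.T11.Srch

set_option autoImplicit false

/-!
The enumeration of the permutations of `n` points that fix `0` and whose first cyclic difference is
the least one, with a test at every such permutation.
-/

namespace Cfsg.Agent.Helper9.T11

/-- the values of a permutation as a function on the numbers. -/
def gv {n : ℕ} (γ : Equiv.Perm (Fin n)) (i : ℕ) : ℕ := if h : i < n then (γ ⟨i, h⟩).val else 0

theorem gv_lt {n : ℕ} (γ : Equiv.Perm (Fin n)) {i : ℕ} (hi : i < n) : gv γ i < n := by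
  unfold gv; rw [dif_pos hi]; exact Fin.isLt _

theorem gv_val {n : ℕ} (γ : Equiv.Perm (Fin n)) (x : Fin n) : gv γ x.val = (γ x).val := by
  unfold gv; rw [dif_pos x.isLt]

theorem gv_inj {n : ℕ} (γ : Equiv.Perm (Fin n)) {i j : ℕ} (hi : i < n) (hj : j < n)
    (h : gv γ i = gv γ j) : i = j := by
  unfold gv at h
  rw [dif_pos hi, dif_pos hj] at h
  have := γ.injective (Fin.ext h)
  exact congrArg Fin.val this

theorem rep_packF_gv {n : ℕ} (hn : n ≤ 16) (γ : Equiv.Perm (Fin n)) : Rep n (packF (gv γ) n) γ := by
  intro x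
  rw [img_packF n (fun j hj => lt_of_lt_of_le (gv_lt γ hj) hn) x.val x.isLt, gv_val]

/-- the bit `v` of `u`. -/
def bit (u v : ℕ) : Bool := Nat.beq (Nat.land (Nat.shiftRight u v) 1) 1

theorem bit_eq (u v : ℕ) : bit u v = u.testBit v := by
  unfold bit Nat.testBit
  change Nat.beq (u >>> v &&& 1) 1 = _
  rw [Nat.and_comm]
  rcases Nat.mod_two_eq_zero_or_one (u >>> v) with h | h
  · rw [Nat.one_and_eq_mod_two, h]; rfl
  · rw [Nat.one_and_eq_mod_two, h]; rfl

/-- the loop over the values `v < k` of the next point: `p` the digits so far, `u` the mask of the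
values so far, `j` the next point, `last` the last value, `d0` the first difference. -/
def enumV (n : ℕ) (cont : ℕ → ℕ → ℕ → Bool) (p u j last d0 : ℕ) : ℕ → Bool :=
  fun k => Nat.rec (motive := fun _ => Bool) true
    (fun v ih => cond (bit u v) ih
      (cond (Nat.blt (Nat.mod (Nat.sub (Nat.add v n) last) n) d0) ih
        (and (frc (Nat.add p (Nat.mul v (Nat.pow 16 j))) (fun p' =>
          frc (Nat.lor u (Nat.shiftLeft 1 v)) (fun u' => cont p' u' v))) ih))) k

theorem enumV_succ (n : ℕ) (cont : ℕ → ℕ → ℕ → Bool) (p u j last d0 v : ℕ) :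
    enumV n cont p u j last d0 (v + 1) = cond (bit u v) (enumV n cont p u j last d0 v)
      (cond (Nat.blt ((v + n - last) % n) d0) (enumV n cont p u j last d0 v)
        (cont (p + v * 16 ^ j) (u ||| 1 <<< v) v && enumV n cont p u j last d0 v)) := by
  change cond (bit u v) (enumV n cont p u j last d0 v)
    (cond (Nat.blt ((v + n - last) % n) d0) (enumV n cont p u j last d0 v)
      (frc (p + v * 16 ^ j) (fun p' => frc (u ||| 1 <<< v) (fun u' => cont p' u' v)) &&
        enumV n cont p u j last d0 v)) = _
  rw [frc_eq, frc_eq]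

theorem enumV_spec (n : ℕ) (cont : ℕ → ℕ → ℕ → Bool) (p u j last d0 : ℕ) : ∀ k : ℕ,
    enumV n cont p u j last d0 k = true → ∀ v < k, bit u v = false →
      d0 ≤ (v + n - last) % n → cont (p + v * 16 ^ j) (u ||| 1 <<< v) v = true := by
  intro k
  induction k with
  | zero => intro _ v hv; exact absurd hv (Nat.not_lt_zero v)
  | succ k ih =>
    intro h v hv hb hd
    rw [enumV_succ] at h
    rcases Nat.lt_succ_iff_lt_or_eq.1 hv with hv | rfl
    · apply ih _ v hv hb hd
      cases h1 : bit u k
      · rw [h1, cond_false] at h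
        cases h2 : Nat.blt ((k + n - last) % n) d0
        · rw [h2, cond_false, Bool.and_eq_true] at h
          exact h.2
        · rw [h2, cond_true] at h
          exact h
      · rw [h1, cond_true] at h
        exact h
    · rw [hb, cond_false] at h
      have h2 : Nat.blt ((v + n - last) % n) d0 = false := by
        rw [Bool.eq_false_iff]
        intro h3
        rw [Nat.blt_eq] at h3
        omega
      rw [h2, cond_false, Bool.and_eq_true] at h
      exact h.1

/-- the enumeration: the test `ck` at every leaf. -/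
def enum (n : ℕ) (ck : ℕ → Bool) (d0 : ℕ) : ℕ → ℕ → ℕ → ℕ → ℕ → Bool :=
  fun fuel => Nat.rec (motive := fun _ => ℕ → ℕ → ℕ → ℕ → Bool)
    (fun p _ _ last => cond (Nat.blt (Nat.mod (Nat.sub n last) n) d0) true (ck p))
    (fun _ ih p u j last => enumV n (fun p' u' v => ih p' u' (Nat.succ j) v) p u j last d0 n) fuel

theorem enum_zero (n : ℕ) (ck : ℕ → Bool) (d0 p u j last : ℕ) :
    enum n ck d0 0 p u j last = cond (Nat.blt ((n - last) % n) d0) true (ck p) := rfl

theorem enum_succ (n : ℕ) (ck : ℕ → Bool) (d0 fuel p u j last : ℕ) :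
    enum n ck d0 (fuel + 1) p u j last =
      enumV n (fun p' u' v => enum n ck d0 fuel p' u' (j + 1) v) p u j last d0 n := rfl

/-- the permutation fixes `0` and its first cyclic difference `d0` is the least one. -/
def Norm {n : ℕ} (γ : Equiv.Perm (Fin n)) (d0 : ℕ) : Prop :=
  gv γ 0 = 0 ∧ ∀ b < n, d0 ≤ (gv γ ((b + 1) % n) + n - gv γ b) % n

theorem enum_spec {n : ℕ} (hn : 0 < n) (ck : ℕ → Bool) {d0 : ℕ} {γ : Equiv.Perm (Fin n)}
    (hγ : Norm γ d0) : ∀ fuel p u j last : ℕ, j + fuel = n → 1 ≤ j → p = packF (gv γ) j →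
      (∀ v, u.testBit v = true → ∃ i < j, gv γ i = v) → last = gv γ (j - 1) →
      enum n ck d0 fuel p u j last = true → ck (packF (gv γ) n) = true := by
  intro fuel
  induction fuel with
  | zero =>
    intro p u j last hj _ hp _ hlast h
    rw [Nat.add_zero] at hj
    subst hj
    rw [enum_zero] at h
    have h2 : Nat.blt ((j - last) % j) d0 = false := by
      rw [Bool.eq_false_iff]
      intro h3
      rw [Nat.blt_eq] at h3
      have h5 := hγ.2 (j - 1) (by omega)
      rw [show (j - 1 + 1) % j = 0 by rw [Nat.sub_add_cancel hn, Nat.mod_self], hγ.1, Nat.zero_add,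
        ← hlast] at h5
      omega
    rw [h2, cond_false, hp] at h
    exact h
  | succ fuel ih =>
    intro p u j last hj hj1 hp hu hlast h
    rw [enum_succ] at h
    have hjn : j < n := by omega
    have hb : bit u (gv γ j) = false := by
      rw [bit_eq, Bool.eq_false_iff]
      intro h1
      obtain ⟨i, hi, he⟩ := hu _ h1
      have := gv_inj γ (by omega) hjn he
      omega
    have hd : d0 ≤ (gv γ j + n - last) % n := by
      have h5 := hγ.2 (j - 1) (by omega)
      rw [Nat.sub_add_cancel hj1, Nat.mod_eq_of_lt hjn, ← hlast] at h5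
      exact h5
    have h1 := enumV_spec n _ p u j last d0 n h (gv γ j) (gv_lt γ hjn) hb hd
    apply ih _ _ (j + 1) (gv γ j) (by omega) (by omega) _ _ _ h1
    · rw [packF_succ, hp]
    · intro v hv
      rw [Nat.testBit_lor, Bool.or_eq_true] at hv
      rcases hv with hv | hv
      · obtain ⟨i, hi, he⟩ := hu v hv
        exact ⟨i, by omega, he⟩
      · rw [Nat.testBit_shiftLeft] at hv
        simp only [Bool.and_eq_true, decide_eq_true_eq] at hv
        obtain ⟨hle, h1b⟩ := hv
        have hv0 : v - gv γ j = 0 := Nat.testBit_one_eq_true_iff_self_eq_zero.1 h1b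
        exact ⟨j, Nat.lt_succ_self j, by omega⟩
    · rw [Nat.add_sub_cancel]

/-! ### putting parts of the enumeration together -/

theorem enumV_intro (n : ℕ) (cont : ℕ → ℕ → ℕ → Bool) (p u j last d0 : ℕ) : ∀ k : ℕ,
    (∀ v < k, bit u v = false → Nat.blt ((v + n - last) % n) d0 = false →
      cont (p + v * 16 ^ j) (u ||| 1 <<< v) v = true) → enumV n cont p u j last d0 k = true := by
  intro k
  induction k with
  | zero => intro _; rfl
  | succ k ih =>
    intro h
    rw [enumV_succ]
    have h1 := ih (fun v hv => h v (Nat.lt_succ_of_lt hv))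
    cases hb : bit u k
    · rw [cond_false]
      cases hd : Nat.blt ((k + n - last) % n) d0
      · rw [cond_false, h k (Nat.lt_succ_self k) hb hd, h1]
        rfl
      · rw [cond_true]
        exact h1
    · rw [cond_true]
      exact h1

theorem enum_intro (n : ℕ) (ck : ℕ → Bool) (d0 fuel p u j last : ℕ)
    (h : ∀ v < n, bit u v = false → Nat.blt ((v + n - last) % n) d0 = false →
      enum n ck d0 fuel (p + v * 16 ^ j) (u ||| 1 <<< v) (j + 1) v = true) :
    enum n ck d0 (fuel + 1) p u j last = true := by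
  rw [enum_succ]
  exact enumV_intro n _ p u j last d0 n h

end Cfsg.Agent.Helper9.T11
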