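import Mathlib
import Cfsg.Agent.Helper9.T11.Srch

set_option autoImplicit false

/-!
The affine maps of the integers modulo 11, as a subgroup of the permutations of `Fin 11`: it is
solvable, and a permutation that conjugates the rotation into it is in it.
-/

namespace Cfsg.Agent.Helper9.T11

open scoped commutatorElement Fin.CommRing

theorem exists_inv11 : ∀ k : Fin 11, k ≠ 0 → ∃ u : Fin 11, k * u = 1 := by decide

theorem rot11_apply (x : Fin 11) : rot 11 x = x + 1 := finRotate_apply x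

/-- the affine maps. -/
def Baff : Subgroup (Equiv.Perm (Fin 11)) where
  carrier := {γ | ∃ k a : Fin 11, ∀ x : Fin 11, γ x = k * x + a}
  one_mem' := ⟨1, 0, fun x => by rw [Equiv.Perm.one_apply, one_mul, add_zero]⟩
  mul_mem' := by
    rintro γ δ ⟨k, a, h⟩ ⟨k', a', h'⟩
    exact ⟨k * k', k * a' + a, fun x => by rw [Equiv.Perm.mul_apply, h', h]; ring⟩
  inv_mem' := by
    rintro γ ⟨k, a, h⟩
    have hk : k ≠ 0 := by
      intro hk
      have h01 : γ 0 = γ 1 := by rw [h 0, h 1, hk, zero_mul, zero_mul]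
      exact absurd (γ.injective h01) (by decide)
    obtain ⟨u, hu⟩ := exists_inv11 k hk
    refine ⟨u, -(u * a), fun x => ?_⟩
    rw [Equiv.Perm.inv_eq_iff_eq, h]
    linear_combination (-(x - a)) * hu

theorem mem_Baff {γ : Equiv.Perm (Fin 11)} :
    γ ∈ Baff ↔ ∃ k a : Fin 11, ∀ x : Fin 11, γ x = k * x + a := Iff.rfl

theorem rot_mem_Baff : rot 11 ∈ Baff :=
  ⟨1, 1, fun x => by rw [rot11_apply, one_mul]⟩

/-- the translations. -/
def Btr : Subgroup (Equiv.Perm (Fin 11)) where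
  carrier := {γ | ∃ a : Fin 11, ∀ x : Fin 11, γ x = x + a}
  one_mem' := ⟨0, fun x => by rw [Equiv.Perm.one_apply, add_zero]⟩
  mul_mem' := by
    rintro γ δ ⟨a, h⟩ ⟨a', h'⟩
    exact ⟨a' + a, fun x => by rw [Equiv.Perm.mul_apply, h', h]; ring⟩
  inv_mem' := by
    rintro γ ⟨a, h⟩
    refine ⟨-a, fun x => ?_⟩
    rw [Equiv.Perm.inv_eq_iff_eq, h]
    ring

theorem commutator_mem_Btr {γ δ : Equiv.Perm (Fin 11)} (hγ : γ ∈ Baff) (hδ : δ ∈ Baff) :
    ⁅γ, δ⁆ ∈ Btr := by
  obtain ⟨k, a, h⟩ := hγ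
  obtain ⟨k', a', h'⟩ := hδ
  have hk : k ≠ 0 := by
    intro hk
    have h01 : γ 0 = γ 1 := by rw [h 0, h 1, hk, zero_mul, zero_mul]
    exact absurd (γ.injective h01) (by decide)
  have hk' : k' ≠ 0 := by
    intro hk
    have h01 : δ 0 = δ 1 := by rw [h' 0, h' 1, hk, zero_mul, zero_mul]
    exact absurd (δ.injective h01) (by decide)
  obtain ⟨u, hu⟩ := exists_inv11 k hk
  obtain ⟨u', hu'⟩ := exists_inv11 k' hk'
  have hi : ∀ x, γ⁻¹ x = u * x + -(u * a) := by
    intro x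
    rw [Equiv.Perm.inv_eq_iff_eq, h]
    linear_combination (-(x - a)) * hu
  have hi' : ∀ x, δ⁻¹ x = u' * x + -(u' * a') := by
    intro x
    rw [Equiv.Perm.inv_eq_iff_eq, h']
    linear_combination (-(x - a')) * hu'
  refine ⟨k * a' + a - a' - k' * a, fun x => ?_⟩
  rw [commutatorElement_def, Equiv.Perm.mul_apply, Equiv.Perm.mul_apply, Equiv.Perm.mul_apply,
    hi', hi, h', h]
  linear_combination ((k' * u') * (x - a') - k' * a) * hu + (x - a') * hu'

theorem Btr_comm {γ δ : Equiv.Perm (Fin 11)} (hγ : γ ∈ Btr) (hδ : δ ∈ Btr) : γ * δ = δ * γ := by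
  obtain ⟨a, h⟩ := hγ
  obtain ⟨a', h'⟩ := hδ
  ext x
  rw [Equiv.Perm.mul_apply, Equiv.Perm.mul_apply, h', h, h, h']
  congr 1
  ring

theorem solvable_of_le_Baff {G : Subgroup (Equiv.Perm (Fin 11))} (hG : G ≤ Baff) :
    Group.IsSolvable G := by
  rw [Group.isSolvable_def]
  refine ⟨2, ?_⟩
  have h1 : derivedSeries G 1 ≤ Btr.comap G.subtype := by
    rw [derivedSeries_one]
    rw [commutator_def, Subgroup.commutator_le]
    intro g₁ _ g₂ _
    rw [Subgroup.mem_comap, map_commutatorElement]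
    exact commutator_mem_Btr (hG g₁.2) (hG g₂.2)
  rw [eq_bot_iff]
  change ⁅derivedSeries G 1, derivedSeries G 1⁆ ≤ ⊥
  refine le_trans (Subgroup.commutator_mono h1 h1) ?_
  rw [Subgroup.commutator_le]
  intro g₁ hg₁ g₂ hg₂
  rw [Subgroup.mem_bot, commutatorElement_eq_one_iff_mul_comm]
  apply Subtype.ext
  exact Btr_comm hg₁ hg₂

/-- the digits of the multiplication by `k`. -/
def affCode (k : ℕ) : ℕ := packF (fun x => Nat.mod (Nat.mul k x) 11) 11

theorem mem_Baff_of_affCode {k : ℕ} {γ : Equiv.Perm (Fin 11)} (hr : Rep 11 (affCode k) γ) :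
    γ ∈ Baff := by
  refine ⟨⟨k % 11, Nat.mod_lt _ (by norm_num)⟩, 0, fun x => ?_⟩
  apply Fin.ext
  have hlt : ∀ j < 11, (fun x => Nat.mod (Nat.mul k x) 11) j < 16 :=
    fun j _ => lt_trans (Nat.mod_lt _ (by norm_num)) (by norm_num)
  rw [← hr x, affCode, img_packF 11 hlt x.val x.isLt, add_zero, Fin.val_mul]
  change k * x.val % 11 = k % 11 * x.val % 11
  rw [Nat.mod_mul_mod]

theorem mem_Baff_of_conj {h : Equiv.Perm (Fin 11)} (hz : h⁻¹ * rot 11 * h ∈ Baff) : h ∈ Baff := by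
  obtain ⟨k, a, hz⟩ := hz
  have hz' : ∀ x, h (k * x + a) = h x + 1 := by
    intro x
    have := hz x
    rw [Equiv.Perm.mul_apply, Equiv.Perm.mul_apply, Equiv.Perm.inv_eq_iff_eq, rot11_apply] at this
    exact this.symm
  have hne : ∀ y : Fin 11, y ≠ y + 1 := by decide
  have hk : k = 1 := by
    by_contra hk
    have hk1 : 1 - k ≠ 0 := sub_ne_zero.2 (Ne.symm hk)
    obtain ⟨u, hu⟩ := exists_inv11 _ hk1
    have h1 := hz' (a * u)
    have e : k * (a * u) + a = a * u := by linear_combination (-a) * hu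
    rw [e] at h1
    exact hne _ h1
  subst hk
  have ha : a ≠ 0 := by
    intro ha
    have h1 := hz' 0
    rw [ha, mul_zero, add_zero] at h1
    exact hne _ h1
  obtain ⟨u, hu⟩ := exists_inv11 a ha
  have key : ∀ t : ℕ, h ((t : Fin 11) * a) = h 0 + (t : Fin 11) := by
    intro t
    induction t with
    | zero => rw [Nat.cast_zero, zero_mul, add_zero]
    | succ t ih =>
      have e : ((t + 1 : ℕ) : Fin 11) * a = 1 * ((t : Fin 11) * a) + a := by push_cast; ring
      rw [e, hz', ih]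
      push_cast
      ring
  refine ⟨u, h 0, fun x => ?_⟩
  have e1 : x = (((x * u).val : ℕ) : Fin 11) * a := by
    rw [Fin.cast_val_eq_self]
    linear_combination (-x) * hu
  have e2 := key (x * u).val
  rw [Fin.cast_val_eq_self] at e2
  rw [← Fin.cast_val_eq_self (x * u)] at e2
  rw [← e1] at e2
  rw [e2, Fin.cast_val_eq_self]
  ring

end Cfsg.Agent.Helper9.T11
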