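import Mathlib
import Cfsg.Agent.Helper9.T11.Ch.C1x2
import Cfsg.Agent.Helper9.T11.Ch.C1x3
import Cfsg.Agent.Helper9.T11.Ch.C1x4
import Cfsg.Agent.Helper9.T11.Ch.C1x5
import Cfsg.Agent.Helper9.T11.Ch.C1x6
import Cfsg.Agent.Helper9.T11.Ch.C1x7
import Cfsg.Agent.Helper9.T11.Ch.C1x8
import Cfsg.Agent.Helper9.T11.Ch.C1x9
import Cfsg.Agent.Helper9.T11.Ch.C1x10
import Cfsg.Agent.Helper9.T11.Ch.C2x1
import Cfsg.Agent.Helper9.T11.Ch.C2x4
import Cfsg.Agent.Helper9.T11.Ch.C2x5
import Cfsg.Agent.Helper9.T11.Ch.C2x6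
import Cfsg.Agent.Helper9.T11.Ch.C2x7
import Cfsg.Agent.Helper9.T11.Ch.C2x8
import Cfsg.Agent.Helper9.T11.Ch.C2x9
import Cfsg.Agent.Helper9.T11.Ch.C2x10
import Cfsg.Agent.Helper9.T11.Ch.C3p0
import Cfsg.Agent.Helper9.T11.Ch.C3p1
import Cfsg.Agent.Helper9.T11.Ch.C3p2
import Cfsg.Agent.Helper9.T11.Ch.C3p3
import Cfsg.Agent.Helper9.T11.Ch.C3p4

set_option autoImplicit false

/-!
The enumeration on 11 points put together: at every permutation fixing `0` with the least first
difference, either the search finds a cycle of prime length, or the permutation is in the list.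
-/

namespace Cfsg.Agent.Helper9.T11

theorem testBit_mask3 {a b v : ℕ} (h : (1 ||| 1 <<< a ||| 1 <<< b).testBit v = true) :
    v = 0 ∨ v = a ∨ v = b := by
  rw [Nat.testBit_lor, Nat.testBit_lor, Bool.or_eq_true, Bool.or_eq_true] at h
  rcases h with (h | h) | h
  · exact Or.inl (Nat.testBit_one_eq_true_iff_self_eq_zero.1 h)
  · rw [Nat.testBit_shiftLeft] at h
    simp only [Bool.and_eq_true, decide_eq_true_eq] at h
    have := Nat.testBit_one_eq_true_iff_self_eq_zero.1 h.2
    exact Or.inr (Or.inl (by omega))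
  · rw [Nat.testBit_shiftLeft] at h
    simp only [Bool.and_eq_true, decide_eq_true_eq] at h
    have := Nat.testBit_one_eq_true_iff_self_eq_zero.1 h.2
    exact Or.inr (Or.inr (by omega))

theorem use_chunk {a b : ℕ}
    (hc : enum 11 ck11 a 8 (a * 16 + b * 256) (1 ||| 1 <<< a ||| 1 <<< b) 3 b = true)
    {γ : Equiv.Perm (Fin 11)} (hγ : Norm γ a) (h1 : gv γ 1 = a) (h2 : gv γ 2 = b) :
    ck11 (packF (gv γ) 11) = true := by
  refine enum_spec (by norm_num) ck11 hγ 8 _ _ 3 b (by norm_num) (by norm_num) ?_ ?_ ?_ hc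
  · rw [packF_succ, packF_succ, packF_succ, hγ.1, h1, h2]
    change a * 16 + b * 256 = 0 + 0 * 16 ^ 0 + a * 16 ^ 1 + b * 16 ^ 2
    norm_num
  · intro v hv
    rcases testBit_mask3 hv with rfl | rfl | rfl
    · exact ⟨0, by norm_num, hγ.1⟩
    · exact ⟨1, by norm_num, h1⟩
    · exact ⟨2, by norm_num, h2⟩
  · exact h2.symm

theorem chunk_table : ∀ a b : ℕ, a < 11 → b < 11 → a ≠ 0 → b ≠ 0 → a ≠ b →
    a ≤ (b + 11 - a) % 11 →
    enum 11 ck11 a 8 (a * 16 + b * 256) (1 ||| 1 <<< a ||| 1 <<< b) 3 b = true := by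
  intro a b ha hb ha0 hb0 hab hd
  interval_cases a <;> interval_cases b
  · omega
  · omega
  · omega
  · omega
  · omega
  · omega
  · omega
  · omega
  · omega
  · omega
  · omega
  · omega
  · omega
  · exact ch_1_2
  · exact ch_1_3
  · exact ch_1_4
  · exact ch_1_5
  · exact ch_1_6
  · exact ch_1_7
  · exact ch_1_8
  · exact ch_1_9
  · exact ch_1_10
  · omega
  · exact ch_2_1
  · omega
  · omega
  · exact ch_2_4
  · exact ch_2_5
  · exact ch_2_6
  · exact ch_2_7
  · exact ch_2_8
  · exact ch_2_9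
  · exact ch_2_10
  · omega
  · exact ch_3_1
  · exact ch_3_2
  · omega
  · omega
  · omega
  · exact ch_3_6
  · exact ch_3_7
  · exact ch_3_8
  · exact ch_3_9
  · exact ch_3_10
  · omega
  · exact ch_4_1
  · exact ch_4_2
  · exact ch_4_3
  · omega
  · omega
  · omega
  · omega
  · exact ch_4_8
  · exact ch_4_9
  · exact ch_4_10
  · omega
  · exact ch_5_1
  · exact ch_5_2
  · exact ch_5_3
  · exact ch_5_4
  · omega
  · omega
  · omega
  · omega
  · omega
  · exact ch_5_10
  · omega
  · exact ch_6_1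
  · exact ch_6_2
  · exact ch_6_3
  · exact ch_6_4
  · exact ch_6_5
  · omega
  · omega
  · omega
  · omega
  · omega
  · omega
  · omega
  · omega
  · exact ch_7_3
  · exact ch_7_4
  · exact ch_7_5
  · exact ch_7_6
  · omega
  · omega
  · omega
  · omega
  · omega
  · omega
  · omega
  · omega
  · omega
  · exact ch_8_5
  · exact ch_8_6
  · exact ch_8_7
  · omega
  · omega
  · omega
  · omega
  · omega
  · omega
  · omega
  · omega
  · omega
  · omega
  · exact ch_9_7
  · exact ch_9_8
  · omega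
  · omega
  · omega
  · omega
  · omega
  · omega
  · omega
  · omega
  · omega
  · omega
  · omega
  · exact ch_10_9
  · omega

/-- at every permutation fixing `0` with the least first difference, either the subgroup generated by
the rotation and the permutation has a cycle of prime length at most `8`, or the permutation is in
the list. -/
theorem cover (γ : Equiv.Perm (Fin 11)) (hγ : Norm γ (gv γ 1)) :
    HasCyc 11 γ ∨ packF (gv γ) 11 ∈ specials := by
  have ha : gv γ 1 < 11 := gv_lt γ (by norm_num)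
  have hb : gv γ 2 < 11 := gv_lt γ (by norm_num)
  have h0 : gv γ 0 = 0 := hγ.1
  have ha0 : gv γ 1 ≠ 0 := by
    intro h
    have := gv_inj γ (i := 1) (j := 0) (by norm_num) (by norm_num) (h.trans h0.symm)
    omega
  have hb0 : gv γ 2 ≠ 0 := by
    intro h
    have := gv_inj γ (i := 2) (j := 0) (by norm_num) (by norm_num) (h.trans h0.symm)
    omega
  have hab : gv γ 1 ≠ gv γ 2 := by
    intro h
    have := gv_inj γ (i := 1) (j := 2) (by norm_num) (by norm_num) h
    omega
  have hd : gv γ 1 ≤ (gv γ 2 + 11 - gv γ 1) % 11 := hγ.2 1 (by norm_num)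
  have hc := chunk_table _ _ ha hb ha0 hb0 hab hd
  exact ck11_sound (rep_packF_gv (by norm_num) γ) (use_chunk hc hγ rfl rfl)

end Cfsg.Agent.Helper9.T11
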