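import Mathlib
import Cfsg.Agent.Helper9.T11.Enum

set_option autoImplicit false

/-!
Every permutation of 11 points is moved by rotations on the left and on the right to a permutation
fixing `0` with the least first difference.
-/

namespace Cfsg.Agent.Helper9.T11

/-- the cyclic difference of `γ` at `b`. -/
def dif (γ : Equiv.Perm (Fin 11)) (b : ℕ) : ℕ := (gv γ ((b + 1) % 11) + 11 - gv γ b) % 11

theorem norm_iff (γ : Equiv.Perm (Fin 11)) (d0 : ℕ) :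
    Norm γ d0 ↔ gv γ 0 = 0 ∧ ∀ b < 11, d0 ≤ dif γ b := Iff.rfl

theorem gv_conj (γ : Equiv.Perm (Fin 11)) (i j : ℕ) {x : ℕ} (hx : x < 11) :
    gv (rot 11 ^ i * γ * rot 11 ^ j) x = (gv γ ((x + j) % 11) + i) % 11 := by
  have hlt : (x + j) % 11 < 11 := Nat.mod_lt _ (by norm_num)
  unfold gv
  rw [dif_pos hx, dif_pos hlt, Equiv.Perm.mul_apply, Equiv.Perm.mul_apply, rot_pow_apply]
  have e : (rot 11 ^ j) ⟨x, hx⟩ = ⟨(x + j) % 11, hlt⟩ := Fin.ext (rot_pow_apply 11 j ⟨x, hx⟩)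
  rw [e]

theorem exists_norm (γ : Equiv.Perm (Fin 11)) : ∃ i j : ℕ,
    Norm (rot 11 ^ i * γ * rot 11 ^ j) (gv (rot 11 ^ i * γ * rot 11 ^ j) 1) := by
  obtain ⟨b0, hb0, hmin⟩ := Finset.exists_min_image (Finset.range 11) (dif γ)
    ⟨0, Finset.mem_range.2 (by norm_num)⟩
  rw [Finset.mem_range] at hb0
  have hw : gv γ b0 < 11 := gv_lt γ hb0
  refine ⟨11 - gv γ b0, b0, ?_⟩
  have key : ∀ x < 11, gv (rot 11 ^ (11 - gv γ b0) * γ * rot 11 ^ b0) x =
      (gv γ ((x + b0) % 11) + (11 - gv γ b0)) % 11 := fun x hx => gv_conj γ _ _ hx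
  have h0 : gv (rot 11 ^ (11 - gv γ b0) * γ * rot 11 ^ b0) 0 = 0 := by
    rw [key 0 (by norm_num), Nat.zero_add, Nat.mod_eq_of_lt hb0]
    omega
  have hdif : ∀ b < 11, dif (rot 11 ^ (11 - gv γ b0) * γ * rot 11 ^ b0) b =
      dif γ ((b + b0) % 11) := by
    intro b hb
    unfold dif
    rw [key _ (Nat.mod_lt _ (by norm_num)), key b hb]
    have e : ((b + 1) % 11 + b0) % 11 = ((b + b0) % 11 + 1) % 11 := by omega
    rw [e]
    have hu : gv γ (((b + b0) % 11 + 1) % 11) < 11 := gv_lt γ (Nat.mod_lt _ (by norm_num))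
    have hv : gv γ ((b + b0) % 11) < 11 := gv_lt γ (Nat.mod_lt _ (by norm_num))
    omega
  rw [norm_iff]
  refine ⟨h0, ?_⟩
  intro b hb
  have h1 : gv (rot 11 ^ (11 - gv γ b0) * γ * rot 11 ^ b0) 1 =
      dif (rot 11 ^ (11 - gv γ b0) * γ * rot 11 ^ b0) 0 := by
    unfold dif
    rw [h0]
    have : gv (rot 11 ^ (11 - gv γ b0) * γ * rot 11 ^ b0) ((0 + 1) % 11) < 11 :=
      gv_lt _ (Nat.mod_lt _ (by norm_num))
    have e : (0 + 1) % 11 = 1 := by norm_num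
    rw [e] at this ⊢
    omega
  rw [h1, hdif 0 (by norm_num), hdif b hb, Nat.zero_add, Nat.mod_eq_of_lt hb0]
  exact hmin _ (Finset.mem_range.2 (Nat.mod_lt _ (by norm_num)))

end Cfsg.Agent.Helper9.T11
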