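import Mathlib
import Cfsg.Agent.Lead.PermJordan2
import Cfsg.Agent.Helper9.T11.Cover
import Cfsg.Agent.Helper9.T11.NormF

set_option autoImplicit false

/-!
A group of permutations of 11 points that contains the rotation but not the alternating group: every
element is moved by rotations on the left and on the right to a permutation of the list.
-/

namespace Cfsg.Agent.Helper9.T11

theorem rep_unique {n h : ℕ} {σ σ' : Equiv.Perm (Fin n)} (hr : Rep n h σ) (hr' : Rep n h σ') :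
    σ = σ' := by
  ext x
  rw [← hr x, ← hr' x]

theorem packF_gv_inj {γ δ : Equiv.Perm (Fin 11)} (h : packF (gv γ) 11 = packF (gv δ) 11) :
    γ = δ := by
  have h1 := rep_packF_gv (by norm_num : 11 ≤ 16) γ
  have h2 := rep_packF_gv (by norm_num : 11 ≤ 16) δ
  rw [h] at h1
  exact rep_unique h1 h2

theorem rot_pow_eleven : rot 11 ^ 11 = 1 := by
  ext x
  rw [rot_pow_apply, Equiv.Perm.one_apply]
  have := x.isLt
  omega

theorem rot_pow_inv (i : ℕ) : (rot 11 ^ i)⁻¹ = rot 11 ^ (11 - i % 11) := by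
  rw [inv_eq_iff_mul_eq_one, ← pow_add]
  ext x
  rw [rot_pow_apply, Equiv.Perm.one_apply]
  have := x.isLt
  omega

theorem pretransitive_of_rot_mem {G : Subgroup (Equiv.Perm (Fin 11))} (hc : rot 11 ∈ G) :
    MulAction.IsPretransitive G (Fin 11) := by
  refine ⟨fun x y => ⟨⟨rot 11 ^ (y.val + 11 - x.val), G.pow_mem hc _⟩, ?_⟩⟩
  apply Fin.ext
  change ((rot 11 ^ (y.val + 11 - x.val)) x).val = y.val
  rw [rot_pow_apply]
  have := x.isLt
  have := y.isLt
  omega

theorem preprimitive_of_rot_mem {G : Subgroup (Equiv.Perm (Fin 11))} (hc : rot 11 ∈ G) :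
    MulAction.IsPreprimitive G (Fin 11) := by
  have := pretransitive_of_rot_mem hc
  apply MulAction.IsPreprimitive.of_prime_card
  rw [Nat.card_eq_fintype_card, Fintype.card_fin]
  norm_num

theorem not_hasCyc {G : Subgroup (Equiv.Perm (Fin 11))} (hc : rot 11 ∈ G)
    (hA : ¬ alternatingGroup (Fin 11) ≤ G) {γ : Equiv.Perm (Fin 11)} (hγ : γ ∈ G) :
    ¬ HasCyc 11 γ := by
  rintro ⟨τ, hτ, l, hl, hl3, hcyc, hcard⟩
  apply hA
  have hle : Subgroup.closure ({rot 11, γ} : Set (Equiv.Perm (Fin 11))) ≤ G := by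
    rw [Subgroup.closure_le]
    intro x hx
    rcases hx with rfl | rfl
    · exact hc
    · exact hγ
  exact Cfsg.Agent.Lead.PJ.jordan_prime_cycle G (preprimitive_of_rot_mem hc) hl
    (by rw [Fintype.card_fin]; exact hl3) hcyc hcard (hle hτ)

theorem exists_special {G : Subgroup (Equiv.Perm (Fin 11))} (hc : rot 11 ∈ G)
    (hA : ¬ alternatingGroup (Fin 11) ≤ G) {g : Equiv.Perm (Fin 11)} (hg : g ∈ G) :
    ∃ i j : ℕ, rot 11 ^ i * g * rot 11 ^ j ∈ G ∧
      packF (gv (rot 11 ^ i * g * rot 11 ^ j)) 11 ∈ specials := by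
  obtain ⟨i, j, hn⟩ := exists_norm g
  have hmem : rot 11 ^ i * g * rot 11 ^ j ∈ G :=
    G.mul_mem (G.mul_mem (G.pow_mem hc i) hg) (G.pow_mem hc j)
  refine ⟨i, j, hmem, ?_⟩
  exact (cover _ hn).resolve_left (not_hasCyc hc hA hmem)

theorem eq_of_conj {g γ' : Equiv.Perm (Fin 11)} {i j : ℕ} (h : rot 11 ^ i * g * rot 11 ^ j = γ') :
    g = rot 11 ^ (11 - i % 11) * γ' * rot 11 ^ (11 - j % 11) := by
  rw [← rot_pow_inv, ← rot_pow_inv, ← h]
  group

end Cfsg.Agent.Helper9.T11
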