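import Mathlib
import Cfsg.Prelude.Def_Sporadic_a
import Cfsg.Agent.Helper9.Steiner.Mask
import Cfsg.Agent.Helper9.T11.Chk

set_option autoImplicit false

/-!
Families of subsets of 11 points given by lists of masks: the test that a permutation given by its
digits maps the family to itself, and the test that the family is a Steiner system `S(4, 5, 11)`.
-/

namespace Cfsg.Agent.Helper9.T11

open Cfsg Cfsg.Agent.Helper9.Steiner
open scoped Pointwise

/-- the family of the subsets of 11 points with masks in the list. -/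
def sysOf (L : List ℕ) : Set (Finset (Fin 11)) := {b | maskOf b ∈ L}

theorem mem_sysOf {L : List ℕ} {b : Finset (Fin 11)} : b ∈ sysOf L ↔ maskOf b ∈ L := Iff.rfl

/-- the image of the mask `b` under the map with the digits `s`, for the points below `k`. -/
def pmI (s b : ℕ) (k : ℕ) : ℕ :=
  Nat.rec (motive := fun _ => ℕ) 0
    (fun i acc => Nat.lor (cond (bit b i) (Nat.shiftLeft 1 (img s i)) 0) acc) k

theorem pmI_eq (s b : ℕ) : ∀ k : ℕ, pmI s b k = pm (img s) b k := by
  intro k
  induction k with
  | zero => rfl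
  | succ k ih =>
    have e : pmI s b (k + 1) = (cond (bit b k) (1 <<< img s k) 0) ||| pmI s b k := rfl
    rw [e, ih, pm, bit_eq]
    cases hb : b.testBit k
    · simp
    · simp [Nat.one_shiftLeft]

theorem pm_lt {ρ : ℕ → ℕ} {n : ℕ} (hρ : ∀ i < n, ρ i < n) (b : ℕ) : pm ρ b n < 2 ^ n := by
  apply Nat.lt_pow_two_of_testBit
  intro j hj
  by_contra hne
  have ht : (pm ρ b n).testBit j = true := by simpa using hne
  rw [testBit_pm] at ht
  obtain ⟨i, hi, _, hr⟩ := ht
  have := hρ i hi
  omega

/-- the test that the map with the digits `s` maps the masks of the list `M` into the list `L`. -/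
def presAux (L : List ℕ) (s : ℕ) (M : List ℕ) : Bool :=
  List.rec (motive := fun _ => Bool) true (fun b _ ih => and (memL (pmI s b 11) L) ih) M

theorem presAux_iff (L : List ℕ) (s : ℕ) (M : List ℕ) :
    presAux L s M = true ↔ ∀ b ∈ M, pmI s b 11 ∈ L := by
  induction M with
  | nil => exact ⟨fun _ b hb => absurd hb List.not_mem_nil, fun _ => rfl⟩
  | cons b M ih =>
    have e : presAux L s (b :: M) = (memL (pmI s b 11) L && presAux L s M) := rfl
    rw [e, Bool.and_eq_true, ih, memL_iff, List.forall_mem_cons]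

/-- the test that the map with the digits `s` maps the family of the list `L` to itself. -/
def presL (L : List ℕ) (s : ℕ) : Bool := presAux L s L

theorem smul_finset_eq (γ : Equiv.Perm (Fin 11)) (b : Finset (Fin 11)) : γ • b = b.image γ := rfl

theorem image_finOf {s : ℕ} {γ : Equiv.Perm (Fin 11)} (hr : Rep 11 s γ) (m : ℕ) :
    (finOf 11 m).image γ = finOf 11 (pmI s m 11) := by
  rw [pmI_eq, finOf_pm (img s) γ hr m]

theorem pmI_lt {s : ℕ} {γ : Equiv.Perm (Fin 11)} (hr : Rep 11 s γ) (m : ℕ) : pmI s m 11 < 2 ^ 11 := by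
  rw [pmI_eq]
  apply pm_lt
  intro i hi
  rw [hr ⟨i, hi⟩]
  exact Fin.isLt _

theorem mem_aut_of_presL {L : List ℕ} {s : ℕ} {γ : Equiv.Perm (Fin 11)} (hr : Rep 11 s γ)
    (hp : presL L s = true) : γ ∈ setSystemAut (sysOf L) := by
  rw [MulAction.mem_stabilizer_set_iff_smul_set_subset (Set.toFinite _), Set.smul_set_subset_iff]
  intro b hb
  rw [mem_sysOf] at hb ⊢
  have e : γ • b = finOf 11 (pmI s (maskOf b) 11) := by
    rw [smul_finset_eq, ← image_finOf hr, finOf_maskOf]
  rw [e, maskOf_finOf (pmI_lt hr _)]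
  exact (presAux_iff L s L).1 hp _ hb

theorem presL_of_mem_aut {L : List ℕ} (hL : ∀ b ∈ L, b < 2 ^ 11) {s : ℕ} {γ : Equiv.Perm (Fin 11)}
    (hr : Rep 11 s γ) (hm : γ ∈ setSystemAut (sysOf L)) : presL L s = true := by
  rw [presL, presAux_iff]
  intro m hmL
  have h1 : finOf 11 m ∈ sysOf L := by rw [mem_sysOf, maskOf_finOf (hL m hmL)]; exact hmL
  have h2 : γ • finOf 11 m ∈ γ • sysOf L := Set.smul_mem_smul_set h1
  rw [MulAction.mem_stabilizer_iff.1 hm, smul_finset_eq, image_finOf hr, mem_sysOf,
    maskOf_finOf (pmI_lt hr _)] at h2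
  exact h2

/-! ### the test for a Steiner system -/

/-- the masks of the list containing the mask `T`. -/
def blkOver (L : List ℕ) (T : ℕ) : List ℕ := L.filter (fun b => Nat.beq (Nat.land T b) T)

/-- the test: the masks have 5 points, are below `2 ^ 11`, and every mask of 4 points is in exactly
one mask of the list. -/
def steinerOK (L : List ℕ) : Bool :=
  L.all (fun b => decide (b < 2 ^ 11) && Nat.beq (popc 11 b) 5) &&
    (subsK 11 4).all (fun T => Nat.beq (blkOver L T).length 1)

theorem lt_of_steinerOK {L : List ℕ} (h : steinerOK L = true) : ∀ b ∈ L, b < 2 ^ 11 := by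
  intro b hb
  rw [steinerOK, Bool.and_eq_true, List.all_eq_true] at h
  have := h.1 b hb
  rw [Bool.and_eq_true, decide_eq_true_eq] at this
  exact this.1

theorem steiner_of_ok {L : List ℕ} (h : steinerOK L = true) : IsSteinerSystem 4 5 (sysOf L) := by
  have hlt := lt_of_steinerOK h
  rw [steinerOK, Bool.and_eq_true, List.all_eq_true, List.all_eq_true] at h
  obtain ⟨h1, h2⟩ := h
  constructor
  · intro b hb
    rw [mem_sysOf] at hb
    have := h1 _ hb
    rw [Bool.and_eq_true] at this
    have h5 : popc 11 (maskOf b) = 5 := Nat.eq_of_beq_eq_true this.2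
    rw [popc_eq_card, finOf_maskOf] at h5
    exact h5
  · intro s hs
    have hT : maskOf s ∈ subsK 11 4 := by rw [← hs]; exact maskOf_mem_subsK s
    have hlen : (blkOver L (maskOf s)).length = 1 := Nat.eq_of_beq_eq_true (h2 _ hT)
    obtain ⟨m, hm⟩ := List.length_eq_one_iff.1 hlen
    have hmem : m ∈ blkOver L (maskOf s) := by rw [hm]; exact List.mem_singleton_self m
    rw [blkOver, List.mem_filter] at hmem
    obtain ⟨hmL, hmT⟩ := hmem
    have hmT' : maskOf s &&& m = maskOf s := Nat.eq_of_beq_eq_true hmT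
    refine ⟨finOf 11 m, ⟨?_, ?_⟩, ?_⟩
    · rw [mem_sysOf, maskOf_finOf (hlt m hmL)]; exact hmL
    · intro x hx
      rw [mem_finOf]
      have hx' : (maskOf s).testBit x.val = true := (testBit_maskOf s x).trans (decide_eq_true hx)
      rw [← hmT', Nat.testBit_and, Bool.and_eq_true] at hx'
      exact hx'.2
    · rintro b' ⟨hb', hsb'⟩
      rw [mem_sysOf] at hb'
      have hsub : finOf 11 (maskOf s) ⊆ finOf 11 (maskOf b') := by
        rw [finOf_maskOf, finOf_maskOf]; exact hsb'
      have hand := and_eq_of_subset (maskOf_lt s) hsub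
      have hin : maskOf b' ∈ blkOver L (maskOf s) := by
        rw [blkOver, List.mem_filter]
        refine ⟨hb', ?_⟩
        change Nat.beq (maskOf s &&& maskOf b') (maskOf s) = true
        rw [hand]
        exact Nat.beq_refl _
      rw [hm, List.mem_singleton] at hin
      rw [← hin, finOf_maskOf]

end Cfsg.Agent.Helper9.T11
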