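import Mathlib
import Cfsg.Agent.S0426
import Cfsg.Agent.Helper9.T11.Grp
import Cfsg.Agent.Helper9.T11.Aff
import Cfsg.Agent.Helper9.T11.Sys

set_option autoImplicit false

/-!
The data of one of the two Steiner systems `S(4, 5, 11)` kept by the rotation, with the tests of the
data, and the first consequences: the group of the system is generated by the rotation and one more
permutation.
-/

namespace Cfsg.Agent.Helper9.T11

open Cfsg

/-- the digits of the rotation. -/
def rotCode : ℕ := packF (fun x => Nat.mod (Nat.succ x) 11) 11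

theorem rep_rotCode : Rep 11 rotCode (rot 11) := by
  intro x
  have hlt : ∀ j < 11, (fun x => Nat.mod (Nat.succ x) 11) j < 16 :=
    fun j _ => lt_trans (Nat.mod_lt _ (by norm_num)) (by norm_num)
  rw [rotCode, img_packF 11 hlt x.val x.isLt]
  have := rot_pow_apply 11 1 x
  rw [pow_one] at this
  rw [this]
  rfl

/-- the digits of the multiplications by `1, ..., 10`. -/
def affCodes : List ℕ :=
  [affCode 1, affCode 2, affCode 3, affCode 4, affCode 5, affCode 6, affCode 7, affCode 8, affCode 9,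
    affCode 10]

theorem mem_Baff_of_affCodes {s : ℕ} {γ : Equiv.Perm (Fin 11)} (hr : Rep 11 s γ)
    (hs : s ∈ affCodes) : γ ∈ Baff := by
  simp only [affCodes, List.mem_cons, List.not_mem_nil, or_false] at hs
  rcases hs with rfl | rfl | rfl | rfl | rfl | rfl | rfl | rfl | rfl | rfl <;>
    exact mem_Baff_of_affCode hr

/-- the data of a case: the masks of the blocks, the digits of the two permutations `σ` and `τ`, the
digits of the conjugate of the rotation by `τ` with a word, and the tables of the permutations of the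
list in the group of the blocks with their words. -/
structure CData where
  /-- the masks of the blocks. -/
  BL : List ℕ
  /-- the digits of `σ`. -/
  S : ℕ
  /-- the digits of `τ`. -/
  T : ℕ
  /-- the digits of the conjugate of the rotation by `τ`. -/
  Cp : ℕ
  /-- a word for `τ` in the rotation and its conjugate. -/
  w5 : List ℕ
  /-- the permutations that generate the group of the blocks with the rotation, with a word for `σ`
  and a word in `σ`. -/
  tabM : List (ℕ × List ℕ × List ℕ)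
  /-- the permutations that generate the small group with the rotation, with a word for `τ`, a word
  in `τ` and a word in `σ`. -/
  tabL : List (ℕ × List ℕ × List ℕ × List ℕ)
  /-- the affine permutations of the group of the blocks, with a word in `τ` and a word in `σ`. -/
  tabA : List (ℕ × List ℕ × List ℕ)
  /-- the digits of the 660 permutations of the small group, as products. -/
  E : List (ℕ × ℕ × ℕ × ℕ)
  /-- the digits of the 660 permutations of the small group. -/
  Ec : List ℕ

/-- the digits of `rot ^ a * γ * rot ^ b`, from the digits `s` of `γ`. -/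
def cconj (s a b : ℕ) : ℕ :=
  packF (fun x => Nat.mod (Nat.add (img s (Nat.mod (Nat.add x b) 11)) a) 11) 11

theorem rep_cconj {s : ℕ} {γ : Equiv.Perm (Fin 11)} (hr : Rep 11 s γ) (a b : ℕ) :
    Rep 11 (cconj s a b) (rot 11 ^ a * γ * rot 11 ^ b) := by
  intro x
  have hlt : ∀ j < 11,
      (fun x => Nat.mod (Nat.add (img s (Nat.mod (Nat.add x b) 11)) a) 11) j < 16 :=
    fun j _ => lt_trans (Nat.mod_lt _ (by norm_num)) (by norm_num)
  rw [cconj, img_packF 11 hlt x.val x.isLt, Equiv.Perm.mul_apply, Equiv.Perm.mul_apply,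
    rot_pow_apply]
  have hlt' : (x.val + b) % 11 < 11 := Nat.mod_lt _ (by norm_num)
  have e : (rot 11 ^ b) x = ⟨(x.val + b) % 11, hlt'⟩ := Fin.ext (rot_pow_apply 11 b x)
  rw [e, ← hr ⟨(x.val + b) % 11, hlt'⟩]
  rfl

/-- the tests of the data of a case. -/
structure COK (D : CData) : Prop where
  steiner : steinerOK D.BL = true
  presRot : presL D.BL rotCode = true
  cls : ∀ s ∈ specials, presL D.BL s = true →
    s ∈ D.tabM.map (fun e => e.1) ∨ s ∈ D.tabL.map (fun e => e.1) ∨ s ∈ D.tabA.map (fun e => e.1)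
  okM : ∀ e ∈ D.tabM, wmap 11 e.1 e.2.1 = D.S ∧ wmap 11 D.S e.2.2 = e.1
  okL : ∀ e ∈ D.tabL,
    wmap 11 e.1 e.2.1 = D.T ∧ wmap 11 D.T e.2.2.1 = e.1 ∧ wmap 11 D.S e.2.2.2 = e.1
  okA : ∀ e ∈ D.tabA, e.1 ∈ affCodes ∧ wmap 11 D.T e.2.1 = e.1 ∧ wmap 11 D.S e.2.2 = e.1
  okCp : ∀ x < 11, img D.Cp (img D.T x) = img D.T ((x + 1) % 11)
  okw5 : wmap 11 D.Cp D.w5 = D.T
  okE0 : ∀ t ∈ D.E, cconj t.2.1 t.2.2.1 t.2.2.2 = t.1 ∧
    (t.2.1 ∈ D.tabL.map (fun e => e.1) ∨ t.2.1 ∈ D.tabA.map (fun e => e.1))
  okE1 : ∀ s, (s ∈ D.tabL.map (fun e => e.1) ∨ s ∈ D.tabA.map (fun e => e.1)) →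
    ∀ a < 11, ∀ b < 11, cconj s a b ∈ D.Ec
  okE2 : D.Ec.Nodup ∧ D.Ec.length = 660 ∧ D.E.map (fun t => t.1) = D.Ec

/-- the group of the blocks of a case. -/
def grpM (D : CData) : Subgroup (Equiv.Perm (Fin 11)) := setSystemAut (sysOf D.BL)

section
variable {D : CData} (hD : COK D)
include hD

theorem rot_mem_grpM : rot 11 ∈ grpM D := mem_aut_of_presL rep_rotCode hD.presRot

theorem grpM_facts : IsM11 (grpM D) ∧ MulAction.IsMultiplyPretransitive (grpM D) (Fin 11) 4 ∧
    ∀ x : Fin 4 ↪ Fin 11, MulAction.stabilizer (grpM D) x = ⊥ :=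
  Cfsg.Agent.S0426.result (by rw [Fintype.card_fin]) (steiner_of_ok hD.steiner)

theorem not_alt_le_grpM : ¬ alternatingGroup (Fin 11) ≤ grpM D := by
  intro h
  have h1 := Subgroup.card_le_of_le h
  have h2 : Nat.card (grpM D) = 7920 := (grpM_facts hD).1.2
  have h3 := two_mul_nat_card_alternatingGroup (α := Fin 11)
  rw [Nat.card_perm, Nat.card_eq_fintype_card (α := Fin 11), Fintype.card_fin] at h3
  have h4 : Nat.factorial 11 = 39916800 := by decide
  omega

theorem grpM_le_closure {σ : Equiv.Perm (Fin 11)} (hσ : Rep 11 D.S σ) :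
    grpM D ≤ Subgroup.closure ({rot 11, σ} : Set (Equiv.Perm (Fin 11))) := by
  intro γ hγ
  obtain ⟨i, j, hmem, hsp⟩ := exists_special (rot_mem_grpM hD) (not_alt_le_grpM hD) hγ
  have hr := rep_packF_gv (by norm_num : 11 ≤ 16) (rot 11 ^ i * γ * rot 11 ^ j)
  have hp : presL D.BL (packF (gv (rot 11 ^ i * γ * rot 11 ^ j)) 11) = true :=
    presL_of_mem_aut (lt_of_steinerOK hD.steiner) hr hmem
  have key : ∃ w, wmap 11 D.S w = packF (gv (rot 11 ^ i * γ * rot 11 ^ j)) 11 := by
    rcases hD.cls _ hsp hp with h | h | h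
    · obtain ⟨e, he, hes⟩ := List.mem_map.1 h
      exact ⟨e.2.2, by rw [← hes]; exact (hD.okM e he).2⟩
    · obtain ⟨e, he, hes⟩ := List.mem_map.1 h
      exact ⟨e.2.2.2, by rw [← hes]; exact (hD.okL e he).2.2⟩
    · obtain ⟨e, he, hes⟩ := List.mem_map.1 h
      exact ⟨e.2.2, by rw [← hes]; exact (hD.okA e he).2.2⟩
  obtain ⟨w, hw⟩ := key
  have hr2 := wmap_rep (by norm_num : 11 ≤ 16) hσ w
  rw [hw] at hr2
  have h1 : rot 11 ^ i * γ * rot 11 ^ j = wperm 11 σ w := rep_unique hr hr2
  have hrot : rot 11 ∈ Subgroup.closure ({rot 11, σ} : Set (Equiv.Perm (Fin 11))) :=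
    Subgroup.subset_closure (by simp)
  rw [eq_of_conj h1]
  exact Subgroup.mul_mem _ (Subgroup.mul_mem _ (Subgroup.pow_mem _ hrot _) (wperm_mem 11 σ w))
    (Subgroup.pow_mem _ hrot _)

/-- the first case: the group contains one of the permutations that generate the group of the
blocks with the rotation. -/
theorem case_M {G : Subgroup (Equiv.Perm (Fin 11))} (hc : rot 11 ∈ G) (hGM : G ≤ grpM D)
    {γ : Equiv.Perm (Fin 11)} (hγ : γ ∈ G)
    (hs : packF (gv γ) 11 ∈ D.tabM.map (fun e => e.1)) :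
    MulAction.IsMultiplyPretransitive G (Fin 11) 4 ∧
      ∀ x : Fin 4 ↪ Fin 11, MulAction.stabilizer G x = ⊥ := by
  obtain ⟨e, he, hes⟩ := List.mem_map.1 hs
  have hr := rep_packF_gv (by norm_num : 11 ≤ 16) γ
  rw [← hes] at hr
  have hσ := wmap_rep (by norm_num : 11 ≤ 16) hr e.2.1
  rw [(hD.okM e he).1] at hσ
  have hle : Subgroup.closure ({rot 11, γ} : Set (Equiv.Perm (Fin 11))) ≤ G := by
    rw [Subgroup.closure_le]
    intro x hx
    rcases hx with rfl | rfl
    · exact hc
    · exact hγ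
  have hσG : wperm 11 γ e.2.1 ∈ G := hle (wperm_mem 11 γ e.2.1)
  have hMG : grpM D ≤ G := by
    refine le_trans (grpM_le_closure hD hσ) ?_
    rw [Subgroup.closure_le]
    intro x hx
    rcases hx with rfl | rfl
    · exact hc
    · exact hσG
  have hEq : G = grpM D := le_antisymm hGM hMG
  rw [hEq]
  exact (grpM_facts hD).2

end

end Cfsg.Agent.Helper9.T11
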