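import Mathlib
import Cfsg.Agent.Lead.SylowLemmas
import Cfsg.Agent.Helper9.T11.Case

set_option autoImplicit false

/-!
A group of permutations of 11 points of order 660 generated by the rotation and one more
permutation `τ`, with `τ` in the subgroup generated by the rotation and its conjugate by `τ`, is
simple.
-/

namespace Cfsg.Agent.Helper9.T11

open Cfsg

theorem rot11_ne_one : rot 11 ≠ 1 := by
  intro h
  have h1 := congrArg (fun σ : Equiv.Perm (Fin 11) => σ 0) h
  simp only [Equiv.Perm.one_apply] at h1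
  rw [rot11_apply] at h1
  exact absurd h1 (by decide)

theorem orderOf_rot11 : orderOf (rot 11) = 11 := by
  have : Fact (Nat.Prime 11) := ⟨by norm_num⟩
  exact orderOf_eq_prime rot_pow_eleven rot11_ne_one

theorem factorization_660 : (660 : ℕ).factorization 11 = 1 := by
  have e : (660 : ℕ) = 11 * 60 := by norm_num
  rw [e, Nat.factorization_mul (by norm_num) (by norm_num), Finsupp.add_apply,
    Nat.Prime.factorization_self (by norm_num),
    Nat.factorization_eq_zero_of_not_dvd (by norm_num)]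

theorem simple_of_card {G : Subgroup (Equiv.Perm (Fin 11))} (hc : rot 11 ∈ G)
    (hcard : Nat.card G = 660) {τ : Equiv.Perm (Fin 11)} (hτ : τ ∈ G)
    (hgen : G ≤ Subgroup.closure ({rot 11, τ} : Set (Equiv.Perm (Fin 11))))
    (hword : τ ∈ Subgroup.closure ({rot 11, τ * rot 11 * τ⁻¹} : Set (Equiv.Perm (Fin 11)))) :
    IsSimpleGroup G := by
  have : Fact (Nat.Prime 11) := ⟨by norm_num⟩
  have hnt : Nontrivial G := Finite.one_lt_card_iff_nontrivial.1 (by rw [hcard]; norm_num)
  refine { exists_pair_ne := hnt.exists_pair_ne, eq_bot_or_eq_top_of_normal := ?_ }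
  intro N hN
  by_cases hbot : N = ⊥
  · exact Or.inl hbot
  right
  have hprim : MulAction.IsPreprimitive G (Fin 11) := preprimitive_of_rot_mem hc
  -- the normal subgroup moves a point
  obtain ⟨a, haN, ha1⟩ := (Subgroup.ne_bot_iff_exists_ne_one).1 hbot |>.imp
    (fun a h => h) |> fun ⟨a, h⟩ => (⟨a.1, a.2, fun e => h (Subtype.ext e)⟩ :
      ∃ a : G, a ∈ N ∧ a ≠ 1)
  have hmove : ∃ x : Fin 11, (a : Equiv.Perm (Fin 11)) x ≠ x := by
    by_contra hcon
    rw [not_exists] at hcon
    have hcon : ∀ x : Fin 11, (a : Equiv.Perm (Fin 11)) x = x := fun x => not_not.1 (hcon x)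
    apply ha1
    apply Subtype.ext
    ext x
    rw [hcon x]
    rfl
  obtain ⟨x, hx⟩ := hmove
  have hfix : MulAction.fixedPoints N (Fin 11) ≠ Set.univ := by
    intro h
    have hxf : x ∈ MulAction.fixedPoints N (Fin 11) := by rw [h]; exact Set.mem_univ x
    rw [MulAction.mem_fixedPoints] at hxf
    exact hx (hxf ⟨a, haN⟩)
  have htr : MulAction.IsPretransitive N (Fin 11) :=
    MulAction.IsQuasiPreprimitive.isPretransitive_of_normal hfix
  have h11 : 11 ∣ Nat.card N := by
    have h1 := MulAction.index_stabilizer_of_transitive (G := N) (X := Fin 11) (x := 0)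
    rw [Nat.card_eq_fintype_card, Fintype.card_fin] at h1
    have h2 := Subgroup.index_dvd_card (MulAction.stabilizer N (0 : Fin 11))
    rw [h1] at h2
    exact h2
  obtain ⟨z, hz⟩ := exists_prime_orderOf_dvd_card' 11 h11
  -- the element `z` of order 11 of the normal subgroup, as a permutation
  have hzo : orderOf ((z : G) : Equiv.Perm (Fin 11)) = 11 := by
    rw [Subgroup.orderOf_coe, Subgroup.orderOf_coe]; exact hz
  have hA : Nat.card (Subgroup.zpowers (rot 11)) = 11 ^ (Nat.card G).factorization 11 := by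
    rw [Nat.card_zpowers, orderOf_rot11, hcard, factorization_660, pow_one]
  have hT : IsPGroup 11 (Subgroup.zpowers ((z : G) : Equiv.Perm (Fin 11))) := by
    apply IsPGroup.of_card (n := 1)
    rw [Nat.card_zpowers, hzo, pow_one]
  obtain ⟨m, hm, hle⟩ := Cfsg.Agent.Lead.exists_conj_le_of_card_eq_ppart
    (M := G) (A := Subgroup.zpowers (rot 11)) (T := Subgroup.zpowers ((z : G) : Equiv.Perm (Fin 11)))
    (by rw [Subgroup.zpowers_le]; exact hc) hA
    (by rw [Subgroup.zpowers_le]; exact (z : G).2) hT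
  -- the conjugate of `z` generates the rotations
  have hw : m * ((z : G) : Equiv.Perm (Fin 11)) * m⁻¹ ∈ Subgroup.zpowers (rot 11) :=
    hle ⟨_, Subgroup.mem_zpowers _, rfl⟩
  have hwo : orderOf (m * ((z : G) : Equiv.Perm (Fin 11)) * m⁻¹) = 11 := by
    have h1 := orderOf_injective (MulAut.conj m).toMonoidHom (MulAut.conj m).injective
      ((z : G) : Equiv.Perm (Fin 11))
    exact h1.trans hzo
  have heq : Subgroup.zpowers (m * ((z : G) : Equiv.Perm (Fin 11)) * m⁻¹) =
      Subgroup.zpowers (rot 11) := by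
    apply Subgroup.eq_of_le_of_card_ge
    · rw [Subgroup.zpowers_le]; exact hw
    · rw [Nat.card_zpowers, Nat.card_zpowers, hwo, orderOf_rot11]
  have hrot : rot 11 ∈ Subgroup.zpowers (m * ((z : G) : Equiv.Perm (Fin 11)) * m⁻¹) := by
    rw [heq]; exact Subgroup.mem_zpowers _
  obtain ⟨k, hk⟩ := Subgroup.mem_zpowers_iff.1 hrot
  -- the rotation is in the normal subgroup
  have hcN : (⟨rot 11, hc⟩ : G) ∈ N := by
    have h1 : (⟨rot 11, hc⟩ : G) = (⟨m, hm⟩ : G) * (z : G) ^ k * (⟨m, hm⟩ : G)⁻¹ := by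
      apply Subtype.ext
      change rot 11 = m * ((z : G) : Equiv.Perm (Fin 11)) ^ k * m⁻¹
      rw [← conj_zpow]
      exact hk.symm
    rw [h1]
    exact hN.conj_mem _ (N.zpow_mem z.2 k) _
  have hcN' : (⟨τ, hτ⟩ : G) * ⟨rot 11, hc⟩ * (⟨τ, hτ⟩ : G)⁻¹ ∈ N := hN.conj_mem _ hcN _
  have hsub : Subgroup.closure ({rot 11, τ * rot 11 * τ⁻¹} : Set (Equiv.Perm (Fin 11))) ≤
      N.map G.subtype := by
    rw [Subgroup.closure_le]
    intro y hy
    rcases hy with rfl | rfl
    · exact ⟨_, hcN, rfl⟩
    · exact ⟨_, hcN', rfl⟩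
  have hτN : τ ∈ N.map G.subtype := hsub hword
  have hall : G ≤ N.map G.subtype := by
    refine le_trans hgen ?_
    rw [Subgroup.closure_le]
    intro y hy
    rcases hy with rfl | rfl
    · exact ⟨_, hcN, rfl⟩
    · exact hτN
  rw [eq_top_iff]
  intro g _
  obtain ⟨n, hn, hng⟩ := hall g.2
  have : n = g := Subtype.ext hng
  rw [← this]
  exact hn

end Cfsg.Agent.Helper9.T11
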