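import Mathlib
import Cfsg.Agent.S0498
import Cfsg.Agent.Helper9.Steiner.AutBound
import Cfsg.Agent.Helper9.T11.Case2

set_option autoImplicit false

/-!
The second case: a group in the group of the blocks that contains the rotation, is not solvable, and
contains none of the permutations that generate the group of the blocks with the rotation, is
isomorphic to the projective special linear group of degree 2 over the field of 11 elements.
-/

namespace Cfsg.Agent.Helper9.T11

open Cfsg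

theorem rot_pow_mod (a : ℕ) : rot 11 ^ a = rot 11 ^ (a % 11) := by
  conv_lhs => rw [← Nat.div_add_mod a 11, pow_add, pow_mul, rot_pow_eleven, one_pow, one_mul]

theorem eq_of_conj_lt {g γ' : Equiv.Perm (Fin 11)} {i j : ℕ}
    (h : rot 11 ^ i * g * rot 11 ^ j = γ') :
    ∃ a < 11, ∃ b < 11, g = rot 11 ^ a * γ' * rot 11 ^ b := by
  refine ⟨(11 - i % 11) % 11, Nat.mod_lt _ (by norm_num), (11 - j % 11) % 11,
    Nat.mod_lt _ (by norm_num), ?_⟩
  rw [← rot_pow_mod, ← rot_pow_mod]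
  exact eq_of_conj h

theorem code_conj {s : ℕ} {γ : Equiv.Perm (Fin 11)} (hr : Rep 11 s γ) (a b : ℕ) :
    packF (gv (rot 11 ^ a * γ * rot 11 ^ b)) 11 = cconj s a b := by
  have hlt : ∀ j < 11,
      (fun x => Nat.mod (Nat.add (img s (Nat.mod (Nat.add x b) 11)) a) 11) j < 16 :=
    fun j _ => lt_trans (Nat.mod_lt _ (by norm_num)) (by norm_num)
  unfold cconj
  apply packF_congr
  intro x hx
  have h1 := rep_cconj hr a b ⟨x, hx⟩
  rw [cconj, img_packF 11 hlt x hx] at h1
  rw [h1]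
  exact gv_val _ ⟨x, hx⟩

theorem rep_conj_rot {T Cp : ℕ} {τ : Equiv.Perm (Fin 11)} (hτ : Rep 11 T τ)
    (h : ∀ x < 11, img Cp (img T x) = img T ((x + 1) % 11)) :
    Rep 11 Cp (τ * rot 11 * τ⁻¹) := by
  intro x
  obtain ⟨y, rfl⟩ : ∃ y, τ y = x := ⟨τ⁻¹ x, by simp⟩
  rw [← hτ y, h y.val y.isLt, Equiv.Perm.mul_apply, Equiv.Perm.mul_apply]
  have e : τ⁻¹ (τ y) = y := by simp
  rw [e]
  have hlt : (y.val + 1) % 11 < 11 := Nat.mod_lt _ (by norm_num)
  have e2 : rot 11 y = ⟨(y.val + 1) % 11, hlt⟩ := by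
    apply Fin.ext
    have := rot_pow_apply 11 1 y
    rw [pow_one] at this
    exact this
  rw [e2]
  exact hτ ⟨(y.val + 1) % 11, hlt⟩

section
variable {D : CData} (hD : COK D)
include hD

theorem case_L {G : Subgroup (Equiv.Perm (Fin 11))} (hc : rot 11 ∈ G)
    (hA : ¬ alternatingGroup (Fin 11) ≤ G) (hsol : ¬ Group.IsSolvable G) (hGM : G ≤ grpM D)
    (hno : ∀ γ ∈ G, packF (gv γ) 11 ∉ D.tabM.map (fun e => e.1)) :
    Nonempty (G ≃* Matrix.ProjectiveSpecialLinearGroup (Fin 2) (ZMod 11)) := by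
  have hle : ∀ γ ∈ G, Subgroup.closure ({rot 11, γ} : Set (Equiv.Perm (Fin 11))) ≤ G := by
    intro γ hγ
    rw [Subgroup.closure_le]
    intro x hx
    rcases hx with rfl | rfl
    · exact hc
    · exact hγ
  -- the elements, up to rotations
  have key1 : ∀ g ∈ G, ∃ i j : ℕ, rot 11 ^ i * g * rot 11 ^ j ∈ G ∧
      (packF (gv (rot 11 ^ i * g * rot 11 ^ j)) 11 ∈ D.tabL.map (fun e => e.1) ∨
        packF (gv (rot 11 ^ i * g * rot 11 ^ j)) 11 ∈ D.tabA.map (fun e => e.1)) := by
    intro g hg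
    obtain ⟨i, j, hmem, hsp⟩ := exists_special hc hA hg
    have hr := rep_packF_gv (by norm_num : 11 ≤ 16) (rot 11 ^ i * g * rot 11 ^ j)
    have hp := presL_of_mem_aut (lt_of_steinerOK hD.steiner) hr (hGM hmem)
    rcases hD.cls _ hsp hp with h | h | h
    · exact absurd h (hno _ hmem)
    · exact ⟨i, j, hmem, Or.inl h⟩
    · exact ⟨i, j, hmem, Or.inr h⟩
  -- the permutation `τ`
  have hτ : ∃ τ ∈ G, Rep 11 D.T τ := by
    by_contra hcon
    apply hsol
    apply solvable_of_le_Baff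
    intro g hg
    obtain ⟨i, j, hmem, h⟩ := key1 g hg
    have hr := rep_packF_gv (by norm_num : 11 ≤ 16) (rot 11 ^ i * g * rot 11 ^ j)
    rcases h with h | h
    · exfalso
      obtain ⟨e, he, hes⟩ := List.mem_map.1 h
      rw [← hes] at hr
      have hτ := wmap_rep (by norm_num : 11 ≤ 16) hr e.2.1
      rw [(hD.okL e he).1] at hτ
      exact hcon ⟨_, hle _ hmem (wperm_mem 11 _ e.2.1), hτ⟩
    · obtain ⟨e, he, hes⟩ := List.mem_map.1 h
      have hB : rot 11 ^ i * g * rot 11 ^ j ∈ Baff :=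
        mem_Baff_of_affCodes hr (by rw [← hes]; exact (hD.okA e he).1)
      rw [eq_of_conj (rfl : rot 11 ^ i * g * rot 11 ^ j = _)]
      exact Baff.mul_mem (Baff.mul_mem (Baff.pow_mem rot_mem_Baff _) hB)
        (Baff.pow_mem rot_mem_Baff _)
  obtain ⟨τ, hτG, hτr⟩ := hτ
  have hrotc : rot 11 ∈ Subgroup.closure ({rot 11, τ} : Set (Equiv.Perm (Fin 11))) :=
    Subgroup.subset_closure (by simp)
  -- the permutations of the two tables are words in `τ`
  have hword : ∀ s, (s ∈ D.tabL.map (fun e => e.1) ∨ s ∈ D.tabA.map (fun e => e.1)) →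
      ∃ γs ∈ Subgroup.closure ({rot 11, τ} : Set (Equiv.Perm (Fin 11))), Rep 11 s γs := by
    intro s hs
    rcases hs with h | h
    · obtain ⟨e, he, hes⟩ := List.mem_map.1 h
      have h1 := wmap_rep (by norm_num : 11 ≤ 16) hτr e.2.2.1
      rw [(hD.okL e he).2.1, hes] at h1
      exact ⟨_, wperm_mem 11 τ _, h1⟩
    · obtain ⟨e, he, hes⟩ := List.mem_map.1 h
      have h1 := wmap_rep (by norm_num : 11 ≤ 16) hτr e.2.1
      rw [(hD.okA e he).2.1, hes] at h1
      exact ⟨_, wperm_mem 11 τ _, h1⟩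
  -- the group is generated by the rotation and `τ`
  have hgen : G ≤ Subgroup.closure ({rot 11, τ} : Set (Equiv.Perm (Fin 11))) := by
    intro g hg
    obtain ⟨i, j, _, h⟩ := key1 g hg
    have hr := rep_packF_gv (by norm_num : 11 ≤ 16) (rot 11 ^ i * g * rot 11 ^ j)
    obtain ⟨γs, hγs, hrs⟩ := hword _ h
    have h1 : rot 11 ^ i * g * rot 11 ^ j = γs := rep_unique hr hrs
    rw [eq_of_conj h1]
    exact Subgroup.mul_mem _ (Subgroup.mul_mem _ (Subgroup.pow_mem _ hrotc _) hγs)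
      (Subgroup.pow_mem _ hrotc _)
  -- the order of the group
  have hcodes : ∀ g : G, packF (gv (g : Equiv.Perm (Fin 11))) 11 ∈ D.Ec.toFinset := by
    intro g
    obtain ⟨i, j, _, h⟩ := key1 g.1 g.2
    have hr := rep_packF_gv (by norm_num : 11 ≤ 16) (rot 11 ^ i * g.1 * rot 11 ^ j)
    obtain ⟨a, ha, b, hb, hg⟩ := eq_of_conj_lt (rfl : rot 11 ^ i * g.1 * rot 11 ^ j = _)
    rw [List.mem_toFinset, hg, code_conj hr a b]
    exact hD.okE1 _ h a ha b hb
  have hupper : Nat.card G ≤ 660 := by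
    have h1 := Cfsg.Agent.Helper9.Steiner.card_le_of_inj
      (fun g : G => packF (gv (g : Equiv.Perm (Fin 11))) 11) D.Ec.toFinset hcodes
      (fun g h hgh => Subtype.ext (packF_gv_inj hgh))
    have h2 := List.toFinset_card_le D.Ec
    rw [hD.okE2.2.1] at h2
    exact le_trans h1 h2
  have hex : ∀ e ∈ D.Ec, ∃ g : G, packF (gv (g : Equiv.Perm (Fin 11))) 11 = e := by
    intro e he
    rw [← hD.okE2.2.2] at he
    obtain ⟨t, ht, hte⟩ := List.mem_map.1 he
    obtain ⟨h1, h2⟩ := hD.okE0 t ht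
    obtain ⟨γs, hγs, hrs⟩ := hword _ h2
    have hγsG : γs ∈ G := by
      refine (Subgroup.closure_le G).2 ?_ hγs
      intro x hx
      rcases hx with rfl | rfl
      · exact hc
      · exact hτG
    refine ⟨⟨rot 11 ^ t.2.2.1 * γs * rot 11 ^ t.2.2.2,
      G.mul_mem (G.mul_mem (G.pow_mem hc _) hγsG) (G.pow_mem hc _)⟩, ?_⟩
    change packF (gv (rot 11 ^ t.2.2.1 * γs * rot 11 ^ t.2.2.2)) 11 = e
    rw [code_conj hrs, h1, hte]
  have hlower : 660 ≤ Nat.card G := by
    choose! f hf using hex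
    have hinj : Function.Injective (fun e : {e // e ∈ D.Ec.toFinset} =>
        f e.1) := by
      intro e e' hee
      apply Subtype.ext
      have h1 := hf e.1 (List.mem_toFinset.1 e.2)
      have h2 := hf e'.1 (List.mem_toFinset.1 e'.2)
      simp only at hee
      rw [← h1, ← h2, hee]
    have h1 := Nat.card_le_card_of_injective _ hinj
    rw [Nat.card_eq_fintype_card, Fintype.card_coe, List.toFinset_card_of_nodup hD.okE2.1,
      hD.okE2.2.1] at h1
    exact h1
  have hcard : Nat.card G = 660 := le_antisymm hupper hlower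
  -- the group is simple
  have hw5 : τ ∈ Subgroup.closure ({rot 11, τ * rot 11 * τ⁻¹} : Set (Equiv.Perm (Fin 11))) := by
    have h1 := wmap_rep (by norm_num : 11 ≤ 16) (rep_conj_rot hτr hD.okCp) D.w5
    rw [hD.okw5] at h1
    have h2 : τ = wperm 11 (τ * rot 11 * τ⁻¹) D.w5 := rep_unique hτr h1
    have h3 := wperm_mem 11 (τ * rot 11 * τ⁻¹) D.w5
    rw [← h2] at h3
    exact h3
  have hsimple : IsSimpleGroup G := simple_of_card hc hcard hτG hgen hw5
  have hprime : Fact (Nat.Prime 11) := ⟨by norm_num⟩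
  exact Cfsg.Agent.S0498.result 11 (Or.inl rfl) (by rw [hcard]; norm_num) (F := ZMod 11)
    (ZMod.card 11)

end

end Cfsg.Agent.Helper9.T11
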