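import Mathlib
import Cfsg.Agent.Helper9.T11.Case3

set_option autoImplicit false

/-!
A group of permutations of 11 points that contains the rotation, is not solvable and does not
contain the alternating group is sharply 4-transitive or isomorphic to the projective special
linear group of degree 2 over the field of 11 elements, from the tests of the data of the two cases.
-/

namespace Cfsg.Agent.Helper9.T11

open Cfsg

theorem conj_mem_of_mem {K : Subgroup (Equiv.Perm (Fin 11))} (hK : rot 11 ∈ K)
    {g : Equiv.Perm (Fin 11)} {i j : ℕ} (h : rot 11 ^ i * g * rot 11 ^ j ∈ K) : g ∈ K := by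
  rw [eq_of_conj (rfl : rot 11 ^ i * g * rot 11 ^ j = _)]
  exact K.mul_mem (K.mul_mem (K.pow_mem hK _) h) (K.pow_mem hK _)

theorem main11 {D1 D2 : CData} (h1 : COK D1) (h2 : COK D2)
    (c0 : ∀ s ∈ specials, s ∈ affCodes ∨ presL D1.BL s = true ∨ presL D2.BL s = true)
    (c1 : ∀ s ∈ specials, presL D1.BL s = true → presL D2.BL s = true → s ∈ affCodes)
    (G : Subgroup (Equiv.Perm (Fin 11))) (hc : rot 11 ∈ G) (hsol : ¬ Group.IsSolvable G)
    (hA : ¬ alternatingGroup (Fin 11) ≤ G) :
    (MulAction.IsMultiplyPretransitive G (Fin 11) 4 ∧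
      ∀ x : Fin 4 ↪ Fin 11, MulAction.stabilizer G x = ⊥) ∨
    Nonempty (G ≃* Matrix.ProjectiveSpecialLinearGroup (Fin 2) (ZMod 11)) := by
  have hcov : ∀ g ∈ G, g ∈ Baff ∨ g ∈ grpM D1 ∨ g ∈ grpM D2 := by
    intro g hg
    obtain ⟨i, j, _, hsp⟩ := exists_special hc hA hg
    have hr := rep_packF_gv (by norm_num : 11 ≤ 16) (rot 11 ^ i * g * rot 11 ^ j)
    rcases c0 _ hsp with h | h | h
    · exact Or.inl (conj_mem_of_mem rot_mem_Baff (mem_Baff_of_affCodes hr h))
    · exact Or.inr (Or.inl (conj_mem_of_mem (rot_mem_grpM h1) (mem_aut_of_presL hr h)))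
    · exact Or.inr (Or.inr (conj_mem_of_mem (rot_mem_grpM h2) (mem_aut_of_presL hr h)))
  have hint : ∀ γ, γ ∈ grpM D1 → γ ∈ grpM D2 → γ ∈ Baff := by
    intro γ hγ1 hγ2
    have hcK : rot 11 ∈ grpM D1 ⊓ grpM D2 := ⟨rot_mem_grpM h1, rot_mem_grpM h2⟩
    have hAK : ¬ alternatingGroup (Fin 11) ≤ grpM D1 ⊓ grpM D2 :=
      fun h => not_alt_le_grpM h1 (le_trans h inf_le_left)
    obtain ⟨i, j, hmem, hsp⟩ := exists_special hcK hAK (⟨hγ1, hγ2⟩ : γ ∈ grpM D1 ⊓ grpM D2)
    have hr := rep_packF_gv (by norm_num : 11 ≤ 16) (rot 11 ^ i * γ * rot 11 ^ j)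
    have p1 := presL_of_mem_aut (lt_of_steinerOK h1.steiner) hr hmem.1
    have p2 := presL_of_mem_aut (lt_of_steinerOK h2.steiner) hr hmem.2
    exact conj_mem_of_mem rot_mem_Baff (mem_Baff_of_affCodes hr (c1 _ hsp p1 p2))
  have hnB : ∃ a ∈ G, a ∉ Baff := by
    by_contra hcon
    apply hsol
    apply solvable_of_le_Baff
    intro g hg
    by_contra hgB
    exact hcon ⟨g, hg, hgB⟩
  have hor : G ≤ grpM D1 ∨ G ≤ grpM D2 := by
    by_cases P1 : ∃ g ∈ G, g ∉ Baff ∧ g ∈ grpM D1
    · by_cases P2 : ∃ h ∈ G, h ∉ Baff ∧ h ∈ grpM D2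
      · exfalso
        obtain ⟨g, hg, hgB, hg1⟩ := P1
        obtain ⟨h, hh, hhB, hh2⟩ := P2
        have key : ∀ t : ℕ, g * rot 11 ^ t * h ∈ Baff := by
          intro t
          rcases hcov _ (G.mul_mem (G.mul_mem hg (G.pow_mem hc t)) hh) with hB | hM | hM
          · exact hB
          · exfalso
            have hh1 : h ∈ grpM D1 := by
              have e : h = (g * rot 11 ^ t)⁻¹ * (g * rot 11 ^ t * h) := by group
              rw [e]
              exact (grpM D1).mul_mem ((grpM D1).inv_mem ((grpM D1).mul_mem hg1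
                ((grpM D1).pow_mem (rot_mem_grpM h1) t))) hM
            exact hhB (hint h hh1 hh2)
          · exfalso
            have hg2 : g ∈ grpM D2 := by
              have e : g = (g * rot 11 ^ t * h) * (rot 11 ^ t * h)⁻¹ := by group
              rw [e]
              exact (grpM D2).mul_mem hM ((grpM D2).inv_mem ((grpM D2).mul_mem
                ((grpM D2).pow_mem (rot_mem_grpM h2) t) hh2))
            exact hgB (hint g hg1 hg2)
        have k0 := key 0
        have k1 := key 1
        have hconj : h⁻¹ * rot 11 * h ∈ Baff := by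
          have e : h⁻¹ * rot 11 * h = (g * rot 11 ^ 0 * h)⁻¹ * (g * rot 11 ^ 1 * h) := by group
          rw [e]
          exact Baff.mul_mem (Baff.inv_mem k0) k1
        exact hhB (mem_Baff_of_conj hconj)
      · left
        by_contra hnot
        obtain ⟨b, hb, hb1⟩ := SetLike.not_le_iff_exists.1 hnot
        have hbB : b ∈ Baff := by
          rcases hcov b hb with h | h | h
          · exact h
          · exact absurd h hb1
          · by_contra hbB
            exact P2 ⟨b, hb, hbB, h⟩
        obtain ⟨a, ha, haB, ha1⟩ := P1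
        have habB : a * b ∉ Baff := by
          intro h
          apply haB
          have e : a = a * b * b⁻¹ := by group
          rw [e]
          exact Baff.mul_mem h (Baff.inv_mem hbB)
        rcases hcov _ (G.mul_mem ha hb) with h | h | h
        · exact habB h
        · apply hb1
          have e : b = a⁻¹ * (a * b) := by group
          rw [e]
          exact (grpM D1).mul_mem ((grpM D1).inv_mem ha1) h
        · exact P2 ⟨a * b, G.mul_mem ha hb, habB, h⟩
    · right
      by_contra hnot
      obtain ⟨b, hb, hb2⟩ := SetLike.not_le_iff_exists.1 hnot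
      have hbB : b ∈ Baff := by
        rcases hcov b hb with h | h | h
        · exact h
        · by_contra hbB
          exact P1 ⟨b, hb, hbB, h⟩
        · exact absurd h hb2
      obtain ⟨a, ha, haB⟩ := hnB
      have ha2 : a ∈ grpM D2 := by
        rcases hcov a ha with h | h | h
        · exact absurd h haB
        · exact absurd ⟨a, ha, haB, h⟩ P1
        · exact h
      have habB : a * b ∉ Baff := by
        intro h
        apply haB
        have e : a = a * b * b⁻¹ := by group
        rw [e]
        exact Baff.mul_mem h (Baff.inv_mem hbB)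
      rcases hcov _ (G.mul_mem ha hb) with h | h | h
      · exact habB h
      · exact P1 ⟨a * b, G.mul_mem ha hb, habB, h⟩
      · apply hb2
        have e : b = a⁻¹ * (a * b) := by group
        rw [e]
        exact (grpM D2).mul_mem ((grpM D2).inv_mem ha2) h
  rcases hor with hG | hG
  · by_cases hex : ∃ γ ∈ G, packF (gv γ) 11 ∈ D1.tabM.map (fun e => e.1)
    · obtain ⟨γ, hγ, hs⟩ := hex
      exact Or.inl (case_M h1 hc hG hγ hs)
    · exact Or.inr (case_L h1 hc hA hsol hG (fun γ hγ hs => hex ⟨γ, hγ, hs⟩))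
  · by_cases hex : ∃ γ ∈ G, packF (gv γ) 11 ∈ D2.tabM.map (fun e => e.1)
    · obtain ⟨γ, hγ, hs⟩ := hex
      exact Or.inl (case_M h2 hc hG hγ hs)
    · exact Or.inr (case_L h2 hc hA hsol hG (fun γ hγ hs => hex ⟨γ, hγ, hs⟩))

end Cfsg.Agent.Helper9.T11
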