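import Mathlib
import Cfsg.Agent.Helper9.T11.Data1

set_option autoImplicit false

/-!
The tests of the data of the case 1.
-/

namespace Cfsg.Agent.Helper9.T11

set_option maxRecDepth 100000 in
theorem data1_steiner : steinerOK data1.BL = true := by decide +kernel

set_option maxRecDepth 100000 in
theorem data1_presRot : presL data1.BL rotCode = true := by decide +kernel

set_option maxRecDepth 100000 in
theorem data1_cls : ∀ s ∈ specials, presL data1.BL s = true →
    s ∈ data1.tabM.map (fun e => e.1) ∨ s ∈ data1.tabL.map (fun e => e.1) ∨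
      s ∈ data1.tabA.map (fun e => e.1) := by decide +kernel

set_option maxRecDepth 100000 in
theorem data1_okM : ∀ e ∈ data1.tabM,
    wmap 11 e.1 e.2.1 = data1.S ∧ wmap 11 data1.S e.2.2 = e.1 := by decide +kernel

set_option maxRecDepth 100000 in
theorem data1_okL : ∀ e ∈ data1.tabL, wmap 11 e.1 e.2.1 = data1.T ∧
    wmap 11 data1.T e.2.2.1 = e.1 ∧ wmap 11 data1.S e.2.2.2 = e.1 := by decide +kernel

set_option maxRecDepth 100000 in
theorem data1_okA : ∀ e ∈ data1.tabA, e.1 ∈ affCodes ∧ wmap 11 data1.T e.2.1 = e.1 ∧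
    wmap 11 data1.S e.2.2 = e.1 := by decide +kernel

set_option maxRecDepth 100000 in
theorem data1_okCp : ∀ x < 11,
    img data1.Cp (img data1.T x) = img data1.T ((x + 1) % 11) := by decide +kernel

set_option maxRecDepth 100000 in
theorem data1_okw5 : wmap 11 data1.Cp data1.w5 = data1.T := by decide +kernel

set_option maxRecDepth 100000 in
theorem data1_okE0 : ∀ t ∈ data1.E, cconj t.2.1 t.2.2.1 t.2.2.2 = t.1 ∧
    (t.2.1 ∈ data1.tabL.map (fun e => e.1) ∨ t.2.1 ∈ data1.tabA.map (fun e => e.1)) := by
  decide +kernel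

set_option maxRecDepth 100000 in
theorem data1_okE1a : ∀ s ∈ data1.tabL.map (fun e => e.1) ++ data1.tabA.map (fun e => e.1),
    ∀ a < 11, ∀ b < 11, cconj s a b ∈ data1.Ec := by decide +kernel

set_option maxRecDepth 100000 in
theorem data1_okE2 : data1.Ec.Nodup ∧ data1.Ec.length = 660 ∧
    data1.E.map (fun t => t.1) = data1.Ec := by decide +kernel

theorem data1_ok : COK data1 where
  steiner := data1_steiner
  presRot := data1_presRot
  cls := data1_cls
  okM := data1_okM
  okL := data1_okL
  okA := data1_okA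
  okCp := data1_okCp
  okw5 := data1_okw5
  okE0 := data1_okE0
  okE1 := fun s hs => data1_okE1a s (List.mem_append.2 hs)
  okE2 := data1_okE2

end Cfsg.Agent.Helper9.T11
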