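import Mathlib
import Cfsg.Agent.Helper9.T11.Data2

set_option autoImplicit false

/-!
The tests of the data of the case 2.
-/

namespace Cfsg.Agent.Helper9.T11

set_option maxRecDepth 100000 in
theorem data2_steiner : steinerOK data2.BL = true := by decide +kernel

set_option maxRecDepth 100000 in
theorem data2_presRot : presL data2.BL rotCode = true := by decide +kernel

set_option maxRecDepth 100000 in
theorem data2_cls : ∀ s ∈ specials, presL data2.BL s = true →
    s ∈ data2.tabM.map (fun e => e.1) ∨ s ∈ data2.tabL.map (fun e => e.1) ∨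
      s ∈ data2.tabA.map (fun e => e.1) := by decide +kernel

set_option maxRecDepth 100000 in
theorem data2_okM : ∀ e ∈ data2.tabM,
    wmap 11 e.1 e.2.1 = data2.S ∧ wmap 11 data2.S e.2.2 = e.1 := by decide +kernel

set_option maxRecDepth 100000 in
theorem data2_okL : ∀ e ∈ data2.tabL, wmap 11 e.1 e.2.1 = data2.T ∧
    wmap 11 data2.T e.2.2.1 = e.1 ∧ wmap 11 data2.S e.2.2.2 = e.1 := by decide +kernel

set_option maxRecDepth 100000 in
theorem data2_okA : ∀ e ∈ data2.tabA, e.1 ∈ affCodes ∧ wmap 11 data2.T e.2.1 = e.1 ∧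
    wmap 11 data2.S e.2.2 = e.1 := by decide +kernel

set_option maxRecDepth 100000 in
theorem data2_okCp : ∀ x < 11,
    img data2.Cp (img data2.T x) = img data2.T ((x + 1) % 11) := by decide +kernel

set_option maxRecDepth 100000 in
theorem data2_okw5 : wmap 11 data2.Cp data2.w5 = data2.T := by decide +kernel

set_option maxRecDepth 100000 in
theorem data2_okE0 : ∀ t ∈ data2.E, cconj t.2.1 t.2.2.1 t.2.2.2 = t.1 ∧
    (t.2.1 ∈ data2.tabL.map (fun e => e.1) ∨ t.2.1 ∈ data2.tabA.map (fun e => e.1)) := by
  decide +kernel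

set_option maxRecDepth 100000 in
theorem data2_okE1a : ∀ s ∈ data2.tabL.map (fun e => e.1) ++ data2.tabA.map (fun e => e.1),
    ∀ a < 11, ∀ b < 11, cconj s a b ∈ data2.Ec := by decide +kernel

set_option maxRecDepth 100000 in
theorem data2_okE2 : data2.Ec.Nodup ∧ data2.Ec.length = 660 ∧
    data2.E.map (fun t => t.1) = data2.Ec := by decide +kernel

theorem data2_ok : COK data2 where
  steiner := data2_steiner
  presRot := data2_presRot
  cls := data2_cls
  okM := data2_okM
  okL := data2_okL
  okA := data2_okA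
  okCp := data2_okCp
  okw5 := data2_okw5
  okE0 := data2_okE0
  okE1 := fun s hs => data2_okE1a s (List.mem_append.2 hs)
  okE2 := data2_okE2

end Cfsg.Agent.Helper9.T11
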