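import Mathlib
import Cfsg.Agent.Helper9.T11.Main
import Cfsg.Agent.Helper9.T11.Ok1
import Cfsg.Agent.Helper9.T11.Ok2

set_option autoImplicit false

/-!
A group of permutations of 11 points that contains the rotation, is not solvable and does not
contain the alternating group is sharply 4-transitive or isomorphic to the projective special
linear group of degree 2 over the field of 11 elements.
-/

namespace Cfsg.Agent.Helper9.T11

set_option maxRecDepth 100000 in
theorem c0_ok : ∀ s ∈ specials,
    s ∈ affCodes ∨ presL data1.BL s = true ∨ presL data2.BL s = true := by decide +kernel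

set_option maxRecDepth 100000 in
theorem c1_ok : ∀ s ∈ specials,
    presL data1.BL s = true → presL data2.BL s = true → s ∈ affCodes := by decide +kernel

theorem fin11 (G : Subgroup (Equiv.Perm (Fin 11))) (hc : rot 11 ∈ G)
    (hsol : ¬ Group.IsSolvable G) (hA : ¬ alternatingGroup (Fin 11) ≤ G) :
    (MulAction.IsMultiplyPretransitive G (Fin 11) 4 ∧
      ∀ x : Fin 4 ↪ Fin 11, MulAction.stabilizer G x = ⊥) ∨
    Nonempty (G ≃* Matrix.ProjectiveSpecialLinearGroup (Fin 2) (ZMod 11)) :=
  main11 data1_ok data2_ok c0_ok c1_ok G hc hsol hA

end Cfsg.Agent.Helper9.T11
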