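import Mathlib
import Cfsg.Agent.Helper9.T11.Fin11

set_option autoImplicit false

/-!
The transport of a transitive group of permutations of 11 points to `Fin 11`, with an element of
order 11 mapped to the rotation.
-/

namespace Cfsg.Agent.Helper9.T11

section
variable {α : Type*}

/-- the image of a group of permutations under a bijection of the points. -/
def mapG (e : α ≃ Fin 11) (G : Subgroup (Equiv.Perm α)) : Subgroup (Equiv.Perm (Fin 11)) :=
  G.map e.permCongrHom.toMonoidHom

theorem mem_mapG {e : α ≃ Fin 11} {G : Subgroup (Equiv.Perm α)} {σ : Equiv.Perm (Fin 11)} :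
    σ ∈ mapG e G ↔ ∃ g ∈ G, e.permCongr g = σ := Subgroup.mem_map

theorem permCongr_apply_apply (e : α ≃ Fin 11) (g : Equiv.Perm α) (x : α) :
    e.permCongr g (e x) = e (g x) := by
  rw [Equiv.permCongr_apply, Equiv.symm_apply_apply]

theorem exists_equiv_rot [Fintype α] [DecidableEq α] (hα : Fintype.card α = 11) (G : Subgroup (Equiv.Perm α))
    [MulAction.IsPretransitive G α] : ∃ e : α ≃ Fin 11, rot 11 ∈ mapG e G := by
  have : Fact (Nat.Prime 11) := ⟨by norm_num⟩
  let e0 : α ≃ Fin 11 := Fintype.equivFinOfCardEq hα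
  have h11 : 11 ∣ Nat.card G := by
    have h1 := MulAction.index_stabilizer_of_transitive (G := G) (X := α) (x := e0.symm 0)
    rw [Nat.card_eq_fintype_card, hα] at h1
    have h2 := Subgroup.index_dvd_card (MulAction.stabilizer G (e0.symm 0))
    rw [h1] at h2
    exact h2
  obtain ⟨z, hz⟩ := exists_prime_orderOf_dvd_card' 11 h11
  have hz' : orderOf (e0.permCongr (z : Equiv.Perm α)) = 11 := by
    have h1 := orderOf_injective e0.permCongrHom.toMonoidHom e0.permCongrHom.injective
      (z : Equiv.Perm α)
    rw [Subgroup.orderOf_coe, hz] at h1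
    exact h1
  have hcyc : (e0.permCongr (z : Equiv.Perm α)).IsCycle := by
    apply Equiv.Perm.isCycle_of_prime_order'
    · rw [hz']; norm_num
    · rw [hz', Fintype.card_fin]; norm_num
  have hct : (e0.permCongr (z : Equiv.Perm α)).cycleType = {11} := by
    rw [hcyc.cycleType, ← hcyc.orderOf, hz']
  have hrot : (finRotate 11).cycleType = {11} := cycleType_finRotate_of_le (by norm_num)
  obtain ⟨π, hπ⟩ := isConj_iff.1 (Equiv.Perm.isConj_iff_cycleType_eq.2 (hct.trans hrot.symm))
  refine ⟨e0.trans π, mem_mapG.2 ⟨z, z.2, ?_⟩⟩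
  rw [rot, ← hπ]
  ext y
  simp [Equiv.permCongr_apply]

theorem transport [Fintype α] [DecidableEq α] (e : α ≃ Fin 11) (G : Subgroup (Equiv.Perm α))
    (hrot : rot 11 ∈ mapG e G) (hG : ¬ Group.IsSolvable G) (hA : ¬ alternatingGroup α ≤ G) :
    (MulAction.IsMultiplyPretransitive G α 4 ∧
      ∀ x : Fin 4 ↪ α, MulAction.stabilizer G x = ⊥) ∨
    Nonempty (G ≃* Matrix.ProjectiveSpecialLinearGroup (Fin 2) (ZMod 11)) := by
  have hinj : Function.Injective e.permCongrHom.toMonoidHom := e.permCongrHom.injective
  have hsol' : ¬ Group.IsSolvable (mapG e G) := by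
    intro h
    apply hG
    have h' : Group.IsSolvable (G.map e.permCongrHom.toMonoidHom) := h
    exact Group.isSolvable_of_isSolvable_injective
      (f := (G.equivMapOfInjective _ hinj).toMonoidHom) (G.equivMapOfInjective _ hinj).injective
  have hA' : ¬ alternatingGroup (Fin 11) ≤ mapG e G := by
    intro h
    apply hA
    intro σ hσ
    have h1 : e.permCongr σ ∈ alternatingGroup (Fin 11) := by
      rw [Equiv.Perm.mem_alternatingGroup, Equiv.Perm.sign_permCongr]
      exact Equiv.Perm.mem_alternatingGroup.1 hσ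
    obtain ⟨g, hg, hge⟩ := mem_mapG.1 (h h1)
    have : g = σ := e.permCongr.injective hge
    rw [← this]
    exact hg
  rcases fin11 (mapG e G) hrot hsol' hA' with ⟨h4, hst⟩ | ⟨⟨iso⟩⟩
  · left
    constructor
    · rw [MulAction.isMultiplyPretransitive_iff] at h4 ⊢
      intro x y
      obtain ⟨g', hg'⟩ := h4 (x.trans e.toEmbedding) (y.trans e.toEmbedding)
      obtain ⟨g, hg, hge⟩ := mem_mapG.1 g'.2
      refine ⟨⟨g, hg⟩, ?_⟩
      apply Function.Embedding.ext
      intro i
      apply e.injective
      have h1 := congrArg (fun f : Fin 4 ↪ Fin 11 => f i) hg'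
      change (g' : Equiv.Perm (Fin 11)) (e (x i)) = e (y i) at h1
      rw [← hge, permCongr_apply_apply] at h1
      exact h1
    · intro x
      rw [eq_bot_iff]
      intro g hg
      rw [MulAction.mem_stabilizer_iff] at hg
      rw [Subgroup.mem_bot]
      have hgx : ∀ i, (g : Equiv.Perm α) (x i) = x i := by
        intro i
        exact congrArg (fun f : Fin 4 ↪ α => f i) hg
      have hmem : (⟨e.permCongr (g : Equiv.Perm α), mem_mapG.2 ⟨g, g.2, rfl⟩⟩ : mapG e G) ∈
          MulAction.stabilizer (mapG e G) (x.trans e.toEmbedding) := by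
        rw [MulAction.mem_stabilizer_iff]
        apply Function.Embedding.ext
        intro i
        change e.permCongr (g : Equiv.Perm α) (e (x i)) = e (x i)
        rw [permCongr_apply_apply, hgx]
      rw [hst, Subgroup.mem_bot] at hmem
      have h1 : e.permCongr (g : Equiv.Perm α) = 1 := congrArg Subtype.val hmem
      apply Subtype.ext
      apply e.permCongr.injective
      rw [h1]
      ext y
      simp [Equiv.permCongr_apply]
  · right
    exact ⟨(G.equivMapOfInjective _ hinj).trans iso⟩

end

end Cfsg.Agent.Helper9.T11
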